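import Mathlib
import Cfsg.Agent.CurtisTitsD.Levi
import Cfsg.Agent.SLPres77.SLGens

/-!
Generation of `SL₂` by conjugates of the element of trace `-1` with first row `0, 1`.
-/

set_option autoImplicit false

namespace CfsgLib.OmegaPres

open Matrix CfsgLib.CurtisTitsA
open CfsgLib.SLPres77 (scaleOff)
open CfsgLib.Classical.Linear (eq_top_of_transvection_mem)
open CfsgLib.CurtisTitsD.Data (wEl2 tor2)

variable {F : Type*} [Field F]

local notation "S2F" => Matrix.SpecialLinearGroup (Fin 2) F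

/-- The element of trace `-1`. -/
def g3 : S2F := ⟨!![0, 1; -1, -1], by rw [det_fin_two_of]; ring⟩

theorem g3_val : (g3 : S2F).1 = !![0, 1; -1, -1] := rfl

theorem g3_pow_three : (g3 : S2F) ^ 3 = 1 := by
  refine sl_eq ?_
  rw [show (g3 : S2F) ^ 3 = g3 * g3 * g3 by simp [pow_succ], val_mul, val_mul, val_one, g3_val]
  ext i j; fin_cases i <;> fin_cases j <;> simp [Matrix.mul_apply, Fin.sum_univ_two]

theorem wEl2_val : (wEl2 : S2F).1 = !![0, 1; -1, 0] := rfl

theorem wEl2_pow_four : (wEl2 : S2F) ^ 4 = 1 := by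
  refine sl_eq ?_
  rw [show (wEl2 : S2F) ^ 4 = wEl2 * wEl2 * (wEl2 * wEl2) by simp [pow_succ, mul_assoc], val_mul,
    val_mul, val_one, wEl2_val]
  ext i j; fin_cases i <;> fin_cases j <;> simp [Matrix.mul_apply, Fin.sum_univ_two]

theorem eq_top_of_up_lo (K : Subgroup S2F) (hu : ∀ t, up2 t ∈ K) (hl : ∀ t, lo2 t ∈ K) : K = ⊤ :=
  eq_top_of_transvection_mem fun a b hab t => by
    rcases transvection_cases hab t with e | e
    · exact e ▸ hu t
    · exact e ▸ hl t

theorem wEl2_conj_up (t : F) : (wEl2 : S2F) * up2 t * wEl2⁻¹ = lo2 (-t) := by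
  rw [mul_inv_eq_iff_eq_mul]
  refine sl_eq ?_
  rw [val_mul, val_mul, wEl2_val, up2_val, lo2_val]
  ext i j; fin_cases i <;> fin_cases j <;> simp [Matrix.mul_apply, Fin.sum_univ_two]

theorem eq_top_of_up (K : Subgroup S2F) (hw : (wEl2 : S2F) ∈ K) (hu : ∀ t, up2 t ∈ K) : K = ⊤ := by
  refine eq_top_of_up_lo K hu fun t => ?_
  rw [← neg_neg t, ← wEl2_conj_up]
  exact K.mul_mem (K.mul_mem hw (hu _)) (K.inv_mem hw)

theorem lo2_zero : (lo2 (0 : F) : S2F) = 1 :=
  sl_eq (by rw [lo2_val, val_one]; ext i j; fin_cases i <;> fin_cases j <;> simp)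

theorem up2_zero : (up2 (0 : F) : S2F) = 1 :=
  sl_eq (by rw [up2_val, val_one]; ext i j; fin_cases i <;> fin_cases j <;> simp)

theorem lo2_neg (t : F) : (lo2 (-t) : S2F) = (lo2 t)⁻¹ :=
  eq_inv_of_mul_eq_one_left (by rw [← lo2_add, neg_add_cancel, lo2_zero])

theorem up2_neg (t : F) : (up2 (-t) : S2F) = (up2 t)⁻¹ :=
  eq_inv_of_mul_eq_one_left (by rw [← up2_add, neg_add_cancel, up2_zero])

theorem scaleOff_up (s : Fˣ) (t : F) : scaleOff s (up2 t : S2F) = up2 (t * s) := by
  refine sl_eq ?_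
  rw [SLPres77.scaleOff_coe, up2_val, up2_val]
  ext i j; fin_cases i <;> fin_cases j <;> simp

theorem scaleOff_lo (s : Fˣ) (t : F) :
    scaleOff s (lo2 t : S2F) = lo2 (t * ((s⁻¹ : Fˣ) : F)) := by
  refine sl_eq ?_
  rw [SLPres77.scaleOff_coe, lo2_val, lo2_val]
  ext i j; fin_cases i <;> fin_cases j <;> simp

theorem scaleOff_one (g : S2F) : scaleOff (1 : Fˣ) g = g := by
  refine sl_eq ?_
  rw [SLPres77.scaleOff_coe]
  ext i j; fin_cases i <;> fin_cases j <;> simp

theorem tor2_conj (z : Fˣ) (g : S2F) : tor2 z * g * (tor2 z)⁻¹ = scaleOff (z * z) g := by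
  rw [mul_inv_eq_iff_eq_mul]
  refine sl_eq ?_
  rw [val_mul, val_mul, CurtisTitsD.Data.tor2_val, SLPres77.scaleOff_coe]
  ext i j
  fin_cases i <;> fin_cases j <;> simp [Matrix.mul_apply, Fin.sum_univ_two] <;> field_simp

/-- Every element of a finite field is a difference of two squares. -/
theorem exists_sq_sub_sq [Finite F] (x : F) : ∃ a b : F, x = a * a - b * b := by
  by_cases h2 : (2 : F) = 0
  · haveI : CharP F 2 := CharTwo.of_one_ne_zero_of_two_eq_zero one_ne_zero h2
    obtain ⟨a, ha⟩ := FiniteField.isSquare_of_char_two (F := F) (ringChar.eq F 2) x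
    exact ⟨a, 0, by rw [ha, mul_zero, sub_zero]⟩
  · exact ⟨(x + 1) / 2, (x - 1) / 2, by field_simp; ring⟩

theorem addSubgroup_top_of_sq [Finite F] (A : AddSubgroup F) {x : F} (hx : x ≠ 0)
    (hA : ∀ m : F, m ≠ 0 → x * (m * m) ∈ A) (t : F) : t ∈ A := by
  obtain ⟨a, b, hab⟩ := exists_sq_sub_sq (t / x)
  have hm : ∀ m : F, x * (m * m) ∈ A := fun m => by
    by_cases h : m = 0
    · subst h; simp
    · exact hA m h
  have := A.sub_mem (hm a) (hm b)
  rwa [← mul_sub, ← hab, mul_div_cancel₀ _ hx] at this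

/-- Conjugates by squares generate, for at least four elements. -/
theorem g3_gen [Finite F] (h4 : 4 ≤ Nat.card F) (K : Subgroup S2F)
    (hg : ∀ m : Fˣ, scaleOff (m * m) (g3 : S2F) ∈ K) : K = ⊤ := by
  -- a square other than one
  obtain ⟨z, hz⟩ : ∃ z : Fˣ, z * z ≠ 1 := by
    by_contra hc
    push Not at hc
    have : Nat.card F ≤ 3 := by
      classical
      haveI := Fintype.ofFinite F
      rw [Nat.card_eq_fintype_card, ← Finset.card_univ]
      refine (Finset.card_le_card (t := ({0, 1, -1} : Finset F)) fun x _ => ?_).trans Finset.card_le_three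
      simp only [Finset.mem_insert, Finset.mem_singleton]
      by_cases hx : x = 0
      · exact Or.inl hx
      · have e : x * x = 1 := by simpa using congrArg Units.val (hc (Units.mk0 x hx))
        exact Or.inr (mul_self_eq_one_iff.mp e)
    omega
  set l : F := ((z * z : Fˣ) : F) with hl
  have hl0 : l ≠ 0 := (z * z).ne_zero
  have hl1 : l ≠ 1 := fun e => hz (Units.ext (by rw [← hl, e]; rfl))
  -- the smallest invariant subgroup
  let W : Subgroup S2F := Subgroup.closure {x | ∃ m : Fˣ, x = scaleOff (m * m) g3}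
  have hW : W ≤ K := (Subgroup.closure_le _).mpr (by rintro _ ⟨m, rfl⟩; exact hg m)
  refine eq_top_iff.mpr (le_trans (le_of_eq ?_) hW)
  have hinv : ∀ (m : Fˣ) {x : S2F}, x ∈ W → scaleOff (m * m) x ∈ W := fun m x hx => by
    have hx' := Subgroup.mem_map_of_mem (scaleOff (m * m)) hx
    rw [MonoidHom.map_closure] at hx'
    refine Subgroup.closure_mono ?_ hx'
    rintro _ ⟨_, ⟨k, rfl⟩, rfl⟩
    refine ⟨m * k, sl_eq ?_⟩
    rw [SLPres77.scaleOff_coe, SLPres77.scaleOff_coe, SLPres77.scaleOff_coe]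
    ext i j
    fin_cases i <;> fin_cases j <;> simp <;> ring
  have g1 : (g3 : S2F) ∈ W := Subgroup.subset_closure ⟨1, by rw [one_mul, scaleOff_one]⟩
  have gl : scaleOff (z * z) (g3 : S2F) ∈ W := Subgroup.subset_closure ⟨z, rfl⟩
  -- a lower and an upper triangular element
  have htri : ∀ (x : S2F), x ∈ W → ∀ (b : F), b ≠ 0 →
      ((x.1 = !![l⁻¹, 0; b, l] → ∀ t, lo2 t ∈ W) ∧ (x.1 = !![l⁻¹, b; 0, l] → ∀ t, up2 t ∈ W)) := by
    intro x hx b hb
    have hkey : x * (scaleOff (z * z) x)⁻¹ ∈ W := W.mul_mem hx (W.inv_mem (hinv z hx))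
    constructor <;> intro e t
    · have e2 : x * (scaleOff (z * z) x)⁻¹ = lo2 (b * l * (1 - l⁻¹)) := by
        rw [mul_inv_eq_iff_eq_mul]
        refine sl_eq ?_
        rw [val_mul, SLPres77.scaleOff_coe, lo2_val, e]
        ext i j
        fin_cases i <;> fin_cases j <;> simp [Matrix.mul_apply, Fin.sum_univ_two, hl] <;>
          field_simp <;> ring
      rw [e2] at hkey
      have hne : b * l * (1 - l⁻¹) ≠ 0 := mul_ne_zero (mul_ne_zero hb hl0)
        (sub_ne_zero.mpr fun h => hl1 (inv_eq_one.mp h.symm))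
      let A : AddSubgroup F :=
        { carrier := {s | lo2 s ∈ W}
          zero_mem' := by show lo2 _ ∈ W; rw [lo2_zero]; exact W.one_mem
          add_mem' := fun {u v} hu hv => by show lo2 _ ∈ W; rw [lo2_add]; exact W.mul_mem hu hv
          neg_mem' := fun {u} hu => by show lo2 _ ∈ W; rw [lo2_neg]; exact W.inv_mem hu }
      refine addSubgroup_top_of_sq A hne (fun m hm => ?_) t
      have h := hinv (Units.mk0 m hm)⁻¹ hkey
      rw [scaleOff_lo] at h
      show lo2 _ ∈ W
      simpa using h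
    · have e2 : x * (scaleOff (z * z) x)⁻¹ = up2 (b * l⁻¹ * (1 - l)) := by
        rw [mul_inv_eq_iff_eq_mul]
        refine sl_eq ?_
        rw [val_mul, SLPres77.scaleOff_coe, up2_val, e]
        ext i j
        fin_cases i <;> fin_cases j <;> simp [Matrix.mul_apply, Fin.sum_univ_two, hl] <;>
          field_simp <;> ring
      rw [e2] at hkey
      have hne : b * l⁻¹ * (1 - l) ≠ 0 := mul_ne_zero (mul_ne_zero hb (inv_ne_zero hl0))
        (sub_ne_zero.mpr hl1.symm)
      let A : AddSubgroup F :=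
        { carrier := {s | up2 s ∈ W}
          zero_mem' := by show up2 _ ∈ W; rw [up2_zero]; exact W.one_mem
          add_mem' := fun {u v} hu hv => by show up2 _ ∈ W; rw [up2_add]; exact W.mul_mem hu hv
          neg_mem' := fun {u} hu => by show up2 _ ∈ W; rw [up2_neg]; exact W.inv_mem hu }
      refine addSubgroup_top_of_sq A hne (fun m hm => ?_) t
      have h := hinv (Units.mk0 m hm) hkey
      rw [scaleOff_up] at h
      show up2 _ ∈ W
      simpa using h
  have hlo := (htri _ (W.mul_mem g1 (W.inv_mem gl)) (1 - l⁻¹)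
    (sub_ne_zero.mpr fun h => hl1 (inv_eq_one.mp h.symm))).1 (by
      rw [val_mul, Matrix.SpecialLinearGroup.coe_inv, SLPres77.scaleOff_coe, g3_val, adjugate_fin_two_of]
      ext i j
      fin_cases i <;> fin_cases j <;> simp [Matrix.mul_apply, Fin.sum_univ_two, hl] <;> field_simp <;> ring)
  have hup := (htri _ (W.mul_mem (W.inv_mem g1) gl) (1 - l) (sub_ne_zero.mpr hl1.symm)).2 (by
      rw [val_mul, Matrix.SpecialLinearGroup.coe_inv, SLPres77.scaleOff_coe, g3_val, adjugate_fin_two_of]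
      ext i j
      fin_cases i <;> fin_cases j <;> simp [Matrix.mul_apply, Fin.sum_univ_two, hl] <;> field_simp <;> ring)
  exact (eq_top_of_up_lo W hup hlo).symm

theorem exists_natCast [Finite F] (h : Nat.card F ≤ 3) (t : F) : ∃ k : ℕ, t = k := by
  obtain ⟨p, hp⟩ := CharP.exists F
  haveI := Fintype.ofFinite F
  obtain ⟨n, hpr, hn⟩ := FiniteField.card F p
  rw [Nat.card_eq_fintype_card, hn] at h
  have hn1 : (n : ℕ) = 1 := by
    by_contra hne
    have : 2 ^ 2 ≤ p ^ (n : ℕ) := (Nat.pow_le_pow_left hpr.two_le 2).trans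
      (Nat.pow_le_pow_right hpr.pos (by have := n.pos; omega))
    omega
  haveI : Fact p.Prime := ⟨hpr⟩
  have hb : Function.Bijective (ZMod.castHom (dvd_refl p) F) := by
    rw [Fintype.bijective_iff_injective_and_card]
    refine ⟨RingHom.injective _, ?_⟩
    rw [ZMod.card, hn, hn1, pow_one]
  obtain ⟨z, hz⟩ := hb.2 t
  exact ⟨z.val, by rw [← hz, ZMod.castHom_apply, ← ZMod.natCast_val]⟩

/-- A single root element spans for prime fields. -/
theorem up_of_one [Finite F] (h3 : Nat.card F ≤ 3) (K : Subgroup S2F) (h : up2 (1 : F) ∈ K) (t : F) :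
    up2 t ∈ K := by
  obtain ⟨k, rfl⟩ := exists_natCast h3 t
  induction k with
  | zero => rw [Nat.cast_zero, up2_zero]; exact K.one_mem
  | succ k ih => rw [Nat.cast_succ, up2_add]; exact K.mul_mem ih h

theorem two_or_three [Finite F] (h3 : Nat.card F ≤ 3) : (2 : F) = 0 ∨ (3 : F) = 0 := by
  haveI := Fintype.ofFinite F
  have h := FiniteField.cast_card_eq_zero F
  rw [← Nat.card_eq_fintype_card] at h
  have h1 := Finite.one_lt_card (α := F)
  interval_cases hc : Nat.card F
  · exact Or.inl (by exact_mod_cast h)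
  · exact Or.inr (by exact_mod_cast h)

/-- The two elements generate over the fields with two or three elements. -/
theorem g3_w_gen [Finite F] (h3 : Nat.card F ≤ 3) (K : Subgroup S2F) (hg : (g3 : S2F) ∈ K)
    (hw : (wEl2 : S2F) ∈ K) : K = ⊤ := by
  refine eq_top_of_up K hw (up_of_one h3 K ?_)
  have hu : wEl2 * g3 ∈ K := K.mul_mem hw hg
  have h4 : (wEl2 * g3 : S2F) * (wEl2 * g3) * (wEl2 * g3) * (wEl2 * g3) = up2 (4 : F) := by
    refine sl_eq ?_
    rw [val_mul, val_mul, val_mul, val_mul, wEl2_val, g3_val, up2_val]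
    ext i j; fin_cases i <;> fin_cases j <;> simp [Matrix.mul_apply, Fin.sum_univ_two] <;> norm_num
  rcases two_or_three h3 with h2 | h3'
  · have e : (wEl2 * g3 : S2F) = up2 1 := by
      have hn : (-1 : F) = 1 := by linear_combination -h2
      refine sl_eq ?_
      rw [val_mul, wEl2_val, g3_val, up2_val]
      ext i j; fin_cases i <;> fin_cases j <;> simp [Matrix.mul_apply, Fin.sum_univ_two, hn]
    exact e ▸ hu
  · have e : (4 : F) = 1 := by linear_combination h3'
    rw [← e, ← h4]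
    exact K.mul_mem (K.mul_mem (K.mul_mem hu hu) hu) hu

/-- Conjugates of `g3` under all torus scalings generate, for at least three elements. -/
theorem g3_gen_all [Finite F] (h3 : 3 ≤ Nat.card F) (K : Subgroup S2F)
    (hg : ∀ m : Fˣ, scaleOff m (g3 : S2F) ∈ K) : K = ⊤ := by
  by_cases h4 : 4 ≤ Nat.card F
  · exact g3_gen h4 K fun m => hg _
  have hc : Nat.card F = 3 := by omega
  have h30 : (3 : F) = 0 := by
    haveI := Fintype.ofFinite F
    have h := FiniteField.cast_card_eq_zero F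
    rw [← Nat.card_eq_fintype_card, hc] at h
    exact_mod_cast h
  refine g3_w_gen (by omega) K (by simpa [scaleOff_one] using hg 1) ?_
  have e : (wEl2 : S2F) = scaleOff (-1) g3 * g3⁻¹ * scaleOff (-1) g3 := by
    refine sl_eq ?_
    rw [val_mul, val_mul, Matrix.SpecialLinearGroup.coe_inv, SLPres77.scaleOff_coe, g3_val, wEl2_val,
      adjugate_fin_two_of]
    ext i j
    fin_cases i <;> fin_cases j <;> simp [Matrix.mul_apply, Fin.sum_univ_two]
    all_goals (first | linear_combination h30 | linear_combination -h30 | linear_combination 2 * h30 | linear_combination -2 * h30)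
  rw [e]
  exact K.mul_mem (K.mul_mem (hg _) (K.inv_mem (by simpa [scaleOff_one] using hg 1))) (hg _)

end CfsgLib.OmegaPres
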