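import Mathlib
import Cfsg.Agent.OmegaPres.Gens
import Cfsg.Agent.OmegaPres.Derive
import Cfsg.Agent.SLRegGen.Basic

/-!
Conjugating root elements by monomial elements supported on pairs of indices.
-/

set_option autoImplicit false
set_option linter.unusedSectionVars false

namespace CfsgLib.OmegaPres

open Matrix CfsgLib.CurtisTitsA CfsgLib.CurtisTitsD
open CfsgLib.SLPres77 (scaleOff)
open CfsgLib.CurtisTitsD.Data (wEl2 tor2)
open CfsgLib.Classical.Linear (eq_top_of_transvection_mem sl_hom_ext)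

variable {F : Type*} [Field F] {ι : Type} [Fintype ι] [DecidableEq ι]

local notation "SLn" => Matrix.SpecialLinearGroup ι F
local notation "S2F" => Matrix.SpecialLinearGroup (Fin 2) F

theorem conj_tv {i j i' j' : ι} (g : SLn) (h : i ≠ j) (h' : i' ≠ j') {lam mu : F} (t : F)
    (hc : g.1 *ᵥ Pi.single i 1 = lam • Pi.single i' 1)
    (hr : (dual g).1 *ᵥ Pi.single j 1 = mu • Pi.single j' 1) :
    g * tv h t * g⁻¹ = tv h' (t * lam * mu) := by
  have hr' : Pi.single j 1 = mu • (g.1ᵀ *ᵥ Pi.single j' 1) := by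
    have e := congrArg (fun v => g.1ᵀ *ᵥ v) hr
    simp only [mulVec_mulVec, mulVec_smul] at e
    rwa [dual_val, ← transpose_mul, ← val_mul, inv_mul_cancel, val_one, transpose_one, one_mulVec] at e
  have hmu : mu ≠ 0 := by
    rintro rfl
    rw [zero_smul] at hr'
    simpa using congrFun hr' j
  rw [mul_inv_eq_iff_eq_mul]
  refine CfsgLib.SLRegGen.conj_transvection g h h' t _ lam mu⁻¹ ?_ ?_ ?_
  · rw [hc, ← Pi.single_smul, smul_eq_mul, mul_one]
  · rw [← mulVec_transpose, show Pi.single j mu⁻¹ = mu⁻¹ • (Pi.single j 1 : ι → F) by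
      rw [← Pi.single_smul, smul_eq_mul, mul_one], hr', smul_smul, inv_mul_cancel₀ hmu, one_smul]
  · field_simp

theorem conj_tv_fix {i j : ι} (g : SLn) (h : i ≠ j) (t : F)
    (hc : g.1 *ᵥ Pi.single i 1 = Pi.single i 1) (hr : (dual g).1 *ᵥ Pi.single j 1 = Pi.single j 1) :
    Commute g (tv h t) :=
  mul_inv_eq_iff_eq_mul.mp ((conj_tv g h h (lam := 1) (mu := 1) t (by rw [hc, one_smul])
    (by rw [hr, one_smul])).trans (by rw [mul_one, mul_one]))

theorem commute_two_tv {a b c d : ι} (hcd : c ≠ d) (hab : a ≠ b) (hac : a ≠ c) (had : a ≠ d)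
    (hbc : b ≠ c) (hbd : b ≠ d) (s : S2F) (t : F) : Commute (emb (two hcd) s) (tv hab t : SLn) :=
  conj_tv_fix _ hab t (emb_two_other hcd hac had s)
    (by rw [dual_emb]; exact emb_two_other hcd hbc hbd _)

theorem commute_two_two {a b c d : ι} (hcd : c ≠ d) (hab : a ≠ b) (hac : a ≠ c) (had : a ≠ d)
    (hbc : b ≠ c) (hbd : b ≠ d) (s s' : S2F) :
    Commute (emb (two hcd) s : SLn) (emb (two hab) s') := by
  have htop : (Subgroup.centralizer ({emb (two hcd) s} : Set SLn)).comap (emb (two hab)) = ⊤ :=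
    eq_top_of_transvection_mem fun i j hij t => by
      rw [Subgroup.mem_comap, Subgroup.mem_centralizer_singleton_iff, emb_transvection]
      have hs : ∀ k, two hab k ≠ c ∧ two hab k ≠ d := fun k => by
        fin_cases k
        · exact ⟨hac, had⟩
        · exact ⟨hbc, hbd⟩
      exact (commute_two_tv hcd _ (hs i).1 (hs i).2 (hs j).1 (hs j).2 s t).eq.symm
  have := htop ▸ Subgroup.mem_top s'
  rw [Subgroup.mem_comap, Subgroup.mem_centralizer_singleton_iff] at this
  exact this.symm

theorem dual_tor2 (z : Fˣ) : dual (tor2 z : S2F) = tor2 z⁻¹ := by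
  refine sl_eq ?_
  rw [dual_val, inv2_val, CurtisTitsD.Data.tor2_val, CurtisTitsD.Data.tor2_val]
  ext i j; fin_cases i <;> fin_cases j <;> simp

theorem torTwo_mulVec {a b : ι} (h : a ≠ b) (z : Fˣ) (k : ι) :
    (emb (two h) (tor2 z) : SLn).1 *ᵥ Pi.single k 1 =
      (if k = a then (z : F) else if k = b then ((z⁻¹ : Fˣ) : F) else 1) • Pi.single k 1 := by
  by_cases ha : k = a
  · subst ha
    rw [emb_two_left, if_pos rfl]
    simp [CurtisTitsD.Data.tor2_val]
  by_cases hb : k = b
  · subst hb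
    rw [emb_two_right, if_neg ha, if_pos rfl]
    simp [CurtisTitsD.Data.tor2_val]
  · rw [emb_two_other h ha hb, if_neg ha, if_neg hb, one_smul]

theorem torTwo_tv {a b i j : ι} (h : a ≠ b) (hij : i ≠ j) (z : Fˣ) (t : F) :
    (emb (two h) (tor2 z) : SLn) * tv hij t * (emb (two h) (tor2 z))⁻¹ =
      tv hij (t * (if i = a then (z : F) else if i = b then ((z⁻¹ : Fˣ) : F) else 1) *
        (if j = a then ((z⁻¹ : Fˣ) : F) else if j = b then ((z⁻¹⁻¹ : Fˣ) : F) else 1)) :=
  conj_tv _ hij hij t (torTwo_mulVec h z i) (by rw [dual_emb, dual_tor2]; exact torTwo_mulVec h z⁻¹ j)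

/-- Conjugation by a torus element on one end of a pair scales the pair's copy of `SL₂`. -/
theorem torTwo_emb_left {a b c : ι} (h : a ≠ b) (hac : a ≠ c) (hca : b ≠ c) (z : Fˣ) (s : S2F) :
    (emb (two hac) (tor2 z) : SLn) * emb (two h) s * (emb (two hac) (tor2 z))⁻¹ =
      emb (two h) (scaleOff z s) := by
  refine DFunLike.congr_fun
    (f := (MulAut.conj (emb (two hac) (tor2 z) : SLn)).toMonoidHom.comp (emb (two h)))
    (g := (emb (two h)).comp (scaleOff z)) (sl_hom_ext fun i j hij t => ?_) s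
  simp only [MonoidHom.comp_apply, MulEquiv.toMonoidHom_eq_coe, MonoidHom.coe_coe, MulAut.conj_apply]
  rcases transvection_cases hij t with e | e <;> rw [e]
  · rw [scaleOff_up, up2, up2, emb_transvection, emb_transvection]
    refine (torTwo_tv hac _ z t).trans (congrArg _ ?_)
    simp [two_zero, two_one, h.symm, hca]
  · rw [scaleOff_lo, lo2, lo2, emb_transvection, emb_transvection]
    refine (torTwo_tv hac _ z t).trans (congrArg _ ?_)
    simp [two_zero, two_one, h.symm, hca]

/-- The other end. -/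
theorem torTwo_emb_right {a b c : ι} (h : a ≠ b) (hbc : b ≠ c) (hac : a ≠ c) (z : Fˣ) (s : S2F) :
    (emb (two hbc) (tor2 z) : SLn) * emb (two h) s * (emb (two hbc) (tor2 z))⁻¹ =
      emb (two h) (scaleOff z⁻¹ s) := by
  refine DFunLike.congr_fun
    (f := (MulAut.conj (emb (two hbc) (tor2 z) : SLn)).toMonoidHom.comp (emb (two h)))
    (g := (emb (two h)).comp (scaleOff z⁻¹)) (sl_hom_ext fun i j hij t => ?_) s
  simp only [MonoidHom.comp_apply, MulEquiv.toMonoidHom_eq_coe, MonoidHom.coe_coe, MulAut.conj_apply]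
  rcases transvection_cases hij t with e | e <;> rw [e]
  · rw [scaleOff_up, up2, up2, emb_transvection, emb_transvection]
    refine (torTwo_tv hbc _ z t).trans (congrArg _ ?_)
    simp [two_zero, two_one, h, hac]
  · rw [scaleOff_lo, lo2, lo2, emb_transvection, emb_transvection]
    refine (torTwo_tv hbc _ z t).trans (congrArg _ ?_)
    simp [two_zero, two_one, h, hac]

/-- The monomial element of a pair moves root elements from the first index to the second. -/
theorem wTwo_tv_left {a b k : ι} (h : a ≠ b) (hka : k ≠ a) (hkb : k ≠ b) (t : F) :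
    (emb (two h) wEl2 : SLn) * tv hkb.symm t * (emb (two h) wEl2)⁻¹ = tv hka.symm t := by
  have e := conj_tv (emb (two h) (wEl2 : S2F) : SLn) hkb.symm hka.symm (lam := 1) (mu := 1) t
    (by rw [emb_two_right]; simp [wEl2])
    (by rw [dual_emb, dual_wEl2, emb_two_other h hka hkb, one_smul])
  rwa [mul_one, mul_one] at e

theorem wTwo_tv_right {a b k : ι} (h : a ≠ b) (hka : k ≠ a) (hkb : k ≠ b) (t : F) :
    (emb (two h) wEl2 : SLn) * tv hkb t * (emb (two h) wEl2)⁻¹ = tv hka t := by
  have e := conj_tv (emb (two h) (wEl2 : S2F) : SLn) hkb hka (lam := 1) (mu := 1) t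
    (by rw [emb_two_other h hka hkb, one_smul])
    (by rw [dual_emb, dual_wEl2, emb_two_right]; simp [wEl2])
  rwa [mul_one, mul_one] at e

end CfsgLib.OmegaPres
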