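import Mathlib
import Cfsg.Agent.OmegaPres.Conj

/-!
From commutation with a few elements to the relations of the amalgam of type `D`.
-/

set_option autoImplicit false
set_option linter.unusedSectionVars false

namespace CfsgLib.OmegaPres

open Matrix CfsgLib.CurtisTitsA CfsgLib.CurtisTitsD
open CfsgLib.SLPres77 (scaleOff)
open CfsgLib.CurtisTitsD.Data (wEl2 tor2)
open CfsgLib.CommutingSLTwo (negOne)
open CfsgLib.Classical.Linear (eq_top_of_transvection_mem transvection_commutator)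

variable {F : Type*} [Field F] {ι : Type} [Fintype ι] [DecidableEq ι]

local notation "SLn" => Matrix.SpecialLinearGroup ι F
local notation "S2F" => Matrix.SpecialLinearGroup (Fin 2) F

theorem scaleOff_scaleOff (a b : Fˣ) (s : S2F) : scaleOff a (scaleOff b s) = scaleOff (a * b) s := by
  refine sl_eq ?_
  rw [SLPres77.scaleOff_coe, SLPres77.scaleOff_coe, SLPres77.scaleOff_coe]
  ext i j
  fin_cases i <;> fin_cases j <;> simp <;> ring

/-- A torus pair ending at the second index of a pair. -/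
theorem torTwo_emb_second {a b c : ι} (h : a ≠ b) (hca : c ≠ a) (hcb : c ≠ b) (z : Fˣ) (s : S2F) :
    (emb (two hcb) (tor2 z) : SLn) * emb (two h) s * (emb (two hcb) (tor2 z))⁻¹ =
      emb (two h) (scaleOff z s) := by
  refine DFunLike.congr_fun
    (f := (MulAut.conj (emb (two hcb) (tor2 z) : SLn)).toMonoidHom.comp (emb (two h)))
    (g := (emb (two h)).comp (scaleOff z)) (Classical.Linear.sl_hom_ext fun i j hij t => ?_) s
  simp only [MonoidHom.comp_apply, MulEquiv.toMonoidHom_eq_coe, MonoidHom.coe_coe, MulAut.conj_apply]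
  rcases transvection_cases hij t with e | e <;> rw [e]
  · rw [scaleOff_up, up2, up2, emb_transvection, emb_transvection]
    refine (torTwo_tv hcb _ z t).trans (congrArg _ ?_)
    simp [two_zero, two_one, h, hca.symm, hcb.symm]
  · rw [scaleOff_lo, lo2, lo2, emb_transvection, emb_transvection]
    refine (torTwo_tv hcb _ z t).trans (congrArg _ ?_)
    simp [two_zero, two_one, h, hca.symm, hcb.symm]

/-- A torus pair ending at the first index of a pair. -/
theorem torTwo_emb_first {a b c : ι} (h : a ≠ b) (hca : c ≠ a) (hcb : c ≠ b) (z : Fˣ) (s : S2F) :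
    (emb (two hca) (tor2 z) : SLn) * emb (two h) s * (emb (two hca) (tor2 z))⁻¹ =
      emb (two h) (scaleOff z⁻¹ s) := by
  refine DFunLike.congr_fun
    (f := (MulAut.conj (emb (two hca) (tor2 z) : SLn)).toMonoidHom.comp (emb (two h)))
    (g := (emb (two h)).comp (scaleOff z⁻¹)) (Classical.Linear.sl_hom_ext fun i j hij t => ?_) s
  simp only [MonoidHom.comp_apply, MulEquiv.toMonoidHom_eq_coe, MonoidHom.coe_coe, MulAut.conj_apply]
  rcases transvection_cases hij t with e | e <;> rw [e]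
  · rw [scaleOff_up, up2, up2, emb_transvection, emb_transvection]
    refine (torTwo_tv hca _ z t).trans (congrArg _ ?_)
    simp [two_zero, two_one, h.symm, hca.symm, hcb.symm]
  · rw [scaleOff_lo, lo2, lo2, emb_transvection, emb_transvection]
    refine (torTwo_tv hca _ z t).trans (congrArg _ ?_)
    simp [two_zero, two_one, h.symm, hca.symm, hcb.symm]

variable {G : Type*} [Group G] (Fr : Frame ι) (φ : Matrix.SpecialLinearGroup ι F →* G) (T : G)

/-- What is known before the commutation relations. -/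
structure Base : Prop where
  fix : ∀ (a b : ι) (h : a ≠ b), a ≠ Fr.o → a ≠ Fr.q → b ≠ Fr.o → b ≠ Fr.q → ∀ t : F,
    Commute T (φ (tv h t))
  flip : ∀ s, T * φ (emb (two Fr.hqo.symm) s) * T⁻¹ = φ (emb (two Fr.hqo.symm) (dual s))

/-- The elements commuting with one element of the conjugated copy. -/
def kTau (y : S2F) : Subgroup SLn := (Subgroup.centralizer {tauG Fr φ T y}).comap φ

/-- The conjugated copy commutes with both disjoint copies. -/
def Full (y : S2F) : Prop :=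
  (∀ (a b : ι) (h : a ≠ b), a ≠ Fr.p → a ≠ Fr.o → b ≠ Fr.p → b ≠ Fr.o → ∀ t : F,
    (tv h t : SLn) ∈ kTau Fr φ T y) ∧ ∀ s, (emb (two Fr.hpo) s : SLn) ∈ kTau Fr φ T y

/-- The torus element fixed by the exchange. -/
def eTor (z : Fˣ) : SLn := emb (two Fr.hrp.symm) (tor2 z)

/-- The torus element commuting with the conjugated copy. -/
def dTor (z : Fˣ) : SLn := eTor Fr z * emb (two Fr.hqo.symm) (tor2 z⁻¹)

variable {Fr φ T}

theorem mem_kTau {y : S2F} {x : SLn} : x ∈ kTau Fr φ T y ↔ Commute (φ x) (tauG Fr φ T y) :=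
  Subgroup.mem_centralizer_singleton_iff

variable (B : Base Fr φ T)
include B

theorem Base.commute_pr (s : S2F) : Commute T (φ (emb (two Fr.hrp.symm) s)) := by
  have htop : (Subgroup.centralizer ({T} : Set G)).comap (φ.comp (emb (two Fr.hrp.symm))) = ⊤ :=
    eq_top_of_transvection_mem fun i j hij t => by
      rw [Subgroup.mem_comap, MonoidHom.comp_apply, emb_transvection, Subgroup.mem_centralizer_singleton_iff]
      have hs : ∀ k, two Fr.hrp.symm k ≠ Fr.o ∧ two Fr.hrp.symm k ≠ Fr.q := fun k => by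
        fin_cases k
        · exact ⟨Fr.hpo, Fr.hqp.symm⟩
        · exact ⟨Fr.hro, Fr.hqr.symm⟩
      exact (B.fix _ _ _ (hs i).1 (hs i).2 (hs j).1 (hs j).2 t).eq.symm
  have := htop ▸ Subgroup.mem_top s
  rw [Subgroup.mem_comap, MonoidHom.comp_apply, Subgroup.mem_centralizer_singleton_iff] at this
  exact this.symm

theorem Base.tau_eTor (z : Fˣ) (s : S2F) :
    φ (eTor Fr z) * tauG Fr φ T s * (φ (eTor Fr z))⁻¹ = tauG Fr φ T (scaleOff z s) := by
  rw [eTor, tauG_apply, tauG_apply]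
  have hc := B.commute_pr (tor2 z)
  have e := congrArg φ (torTwo_emb_left (F := F) Fr.hpo Fr.hrp.symm Fr.hro.symm z s)
  rw [map_mul, map_mul, map_inv] at e
  rw [← e]
  calc _ = (φ (emb (two Fr.hrp.symm) (tor2 z)) * T) * φ (emb (two Fr.hpo) s) *
      (φ (emb (two Fr.hrp.symm) (tor2 z)) * T)⁻¹ := by group
    _ = _ := by rw [← hc.eq]; group

theorem Base.base_tv {a b : ι} (h : a ≠ b) (ha : a ≠ Fr.p) (ha' : a ≠ Fr.o) (ha'' : a ≠ Fr.q)
    (hb : b ≠ Fr.p) (hb' : b ≠ Fr.o) (hb'' : b ≠ Fr.q) (t : F) (y : S2F) :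
    (tv h t : SLn) ∈ kTau Fr φ T y := by
  rw [mem_kTau, tauG_apply]
  have h1 := (B.fix a b h ha' ha'' hb' hb'' t).symm
  exact (h1.mul_right ((commute_two_tv Fr.hpo h ha ha' hb hb' y t).symm.map φ)).mul_right h1.inv_right

theorem Base.dTor_mem (z : Fˣ) (y : S2F) : dTor Fr z ∈ kTau Fr φ T y := by
  -- the image of the torus element under the exchange commutes with the pair
  have hc : Commute (eTor Fr z * emb (two Fr.hqo.symm) (tor2 z) : SLn) (emb (two Fr.hpo) y) := by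
    refine mul_inv_eq_iff_eq_mul.mp ?_
    calc _ = eTor Fr z * (emb (two Fr.hqo.symm) (tor2 z) * emb (two Fr.hpo) y *
          (emb (two Fr.hqo.symm) (tor2 z))⁻¹) * (eTor Fr z : SLn)⁻¹ := by group
      _ = emb (two Fr.hpo) (scaleOff z (scaleOff z⁻¹ y)) := by
        rw [torTwo_emb_right Fr.hpo Fr.hqo.symm Fr.hqp.symm, eTor,
          torTwo_emb_left Fr.hpo Fr.hrp.symm Fr.hro.symm]
      _ = _ := by rw [scaleOff_scaleOff, mul_inv_cancel, scaleOff_one]
  rw [mem_kTau, tauG_apply]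
  have e : φ (dTor Fr z) = T * φ (eTor Fr z * emb (two Fr.hqo.symm) (tor2 z) : SLn) * T⁻¹ := by
    have hfl := B.flip (tor2 z)
    rw [dual_tor2] at hfl
    rw [dTor, map_mul, map_mul]
    rw [← hfl, eTor]
    calc _ = (φ (emb (two Fr.hrp.symm) (tor2 z)) * T) * φ (emb (two Fr.hqo.symm) (tor2 z)) * T⁻¹ := by group
      _ = _ := by rw [← (B.commute_pr (tor2 z)).eq]; group
  rw [e]
  simpa [MulAut.conj_apply] using (hc.map φ).map (MulAut.conj T).toMonoidHom

/-- The copy on the exchanged pair is reached by squares. -/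
theorem Base.pair_mem {a b : ι} (h : a ≠ b) {y : S2F}
    (hd : ∀ (z : Fˣ) (s : S2F), (dTor Fr z : SLn) * emb (two h) s * (dTor Fr z)⁻¹ =
      emb (two h) (scaleOff (z * z) s)) [Finite F]
    (hg : (emb (two h) g3 : SLn) ∈ kTau Fr φ T y)
    (hw : Nat.card F ≤ 3 → (emb (two h) wEl2 : SLn) ∈ kTau Fr φ T y) (s : S2F) :
    (emb (two h) s : SLn) ∈ kTau Fr φ T y := by
  have htop : (kTau Fr φ T y).comap (emb (two h)) = ⊤ := by
    by_cases h4 : 4 ≤ Nat.card F
    · refine g3_gen h4 _ fun m => ?_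
      rw [Subgroup.mem_comap, ← hd]
      exact mul_mem (mul_mem (B.dTor_mem m y) hg) (inv_mem (B.dTor_mem m y))
    · exact g3_w_gen (by omega) _ hg (hw (by omega))
  exact Subgroup.mem_comap.mp (htop ▸ Subgroup.mem_top s)

theorem Base.dTor_po (z : Fˣ) (s : S2F) : (dTor Fr z : SLn) * emb (two Fr.hpo) s * (dTor Fr z)⁻¹ =
    emb (two Fr.hpo) (scaleOff (z * z) s) := by
  calc _ = eTor Fr z * (emb (two Fr.hqo.symm) (tor2 z⁻¹) * emb (two Fr.hpo) s *
        (emb (two Fr.hqo.symm) (tor2 z⁻¹))⁻¹) * (eTor Fr z : SLn)⁻¹ := by rw [dTor]; group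
    _ = _ := by
      rw [torTwo_emb_right Fr.hpo Fr.hqo.symm Fr.hqp.symm, inv_inv, eTor,
        torTwo_emb_left Fr.hpo Fr.hrp.symm Fr.hro.symm, scaleOff_scaleOff]

theorem Base.dTor_qr (z : Fˣ) (s : S2F) : (dTor Fr z : SLn) * emb (two Fr.hqr) s * (dTor Fr z)⁻¹ =
    emb (two Fr.hqr) (scaleOff (z * z) s) := by
  calc _ = eTor Fr z * (emb (two Fr.hqo.symm) (tor2 z⁻¹) * emb (two Fr.hqr) s *
        (emb (two Fr.hqo.symm) (tor2 z⁻¹))⁻¹) * (eTor Fr z : SLn)⁻¹ := by rw [dTor]; group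
    _ = _ := by
      rw [torTwo_emb_first Fr.hqr Fr.hqo.symm Fr.hro.symm, inv_inv, eTor,
        torTwo_emb_second Fr.hqr Fr.hqp.symm Fr.hrp.symm, scaleOff_scaleOff]

/-- Rank at least five: one element suffices. -/
theorem Base.full_large [Finite F] {y : S2F} (hx : ∃ x, x ≠ Fr.p ∧ x ≠ Fr.o ∧ x ≠ Fr.q ∧ x ≠ Fr.r)
    (hc : (emb (two Fr.hqr) wEl2 * emb (two Fr.hpo) g3 : SLn) ∈ kTau Fr φ T y)
    (hw : Nat.card F ≤ 3 → (emb (two Fr.hpo) wEl2 : SLn) ∈ kTau Fr φ T y) : Full Fr φ T y := by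
  set K := kTau Fr φ T y
  set w : SLn := emb (two Fr.hqr) wEl2 with hwdef
  set g : SLn := emb (two Fr.hpo) g3 with hgdef
  obtain ⟨x, hxp, hxo, hxq, hxr⟩ := hx
  -- conjugates by the given element
  have hmove : ∀ {a b : ι} (h : a ≠ b), a ≠ Fr.p → a ≠ Fr.o → b ≠ Fr.p → b ≠ Fr.o → ∀ t : F,
      (tv h t : SLn) ∈ K → w * tv h t * w⁻¹ ∈ K := fun {a b} h h1 h2 h3 h4 t ht => by
    have e : w * g * tv h t * (w * g)⁻¹ = w * tv h t * w⁻¹ := by
      calc _ = w * (g * tv h t * g⁻¹) * w⁻¹ := by group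
        _ = _ := by rw [(commute_two_tv Fr.hpo h h1 h2 h3 h4 g3 t).eq, mul_inv_cancel_right]
    rw [← e]
    exact mul_mem (mul_mem hc ht) (inv_mem hc)
  have hq1 : ∀ {b : ι} (hbq : b ≠ Fr.q), b ≠ Fr.r → b ≠ Fr.p → b ≠ Fr.o → ∀ t : F,
      (tv hbq.symm t : SLn) ∈ K := fun {b} hbq hbr hbp hbo t => by
    rw [← wTwo_tv_left Fr.hqr hbq hbr t]
    exact hmove hbr.symm Fr.hrp Fr.hro hbp hbo t
      (B.base_tv hbr.symm Fr.hrp Fr.hro Fr.hqr.symm hbp hbo hbq t y)
  have hq2 : ∀ {b : ι} (hbq : b ≠ Fr.q), b ≠ Fr.r → b ≠ Fr.p → b ≠ Fr.o → ∀ t : F,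
      (tv hbq t : SLn) ∈ K := fun {b} hbq hbr hbp hbo t => by
    rw [← wTwo_tv_right Fr.hqr hbq hbr t]
    exact hmove hbr hbp hbo Fr.hrp Fr.hro t (B.base_tv hbr hbp hbo hbq Fr.hrp Fr.hro Fr.hqr.symm t y)
  have hall : ∀ (a b : ι) (h : a ≠ b), a ≠ Fr.p → a ≠ Fr.o → b ≠ Fr.p → b ≠ Fr.o → ∀ t : F,
      (tv h t : SLn) ∈ K := by
    intro a b h h1 h2 h3 h4 t
    have hcomm : ∀ {u v : ι} (huv : u ≠ v) (hux : u ≠ x) (hxv : x ≠ v),
        (∀ s : F, (tv hux s : SLn) ∈ K) → (∀ s : F, (tv hxv s : SLn) ∈ K) → ∀ s : F, (tv huv s : SLn) ∈ K :=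
      fun {u v} huv hux hxv k1 k2 s => by
        have e := transvection_commutator hux hxv huv s (1 : F)
        rw [mul_one] at e
        rw [tv, ← e]
        exact mul_mem (mul_mem (mul_mem (k1 _) (k2 _)) (inv_mem (k1 _))) (inv_mem (k2 _))
    by_cases haq : a = Fr.q
    · subst haq
      by_cases hbr : b = Fr.r
      · subst hbr
        exact hcomm h hxq.symm hxr (hq1 hxq hxr hxp hxo)
          (fun s => B.base_tv hxr hxp hxo hxq Fr.hrp Fr.hro Fr.hqr.symm s y) t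
      · exact hq1 h.symm hbr h3 h4 t
    by_cases hbq : b = Fr.q
    · subst hbq
      by_cases har : a = Fr.r
      · subst har
        exact hcomm h hxr.symm hxq
          (fun s => B.base_tv hxr.symm Fr.hrp Fr.hro Fr.hqr.symm hxp hxo hxq s y) (hq2 hxq hxr hxp hxo) t
      · exact hq2 h har h1 h2 t
    exact B.base_tv h h1 h2 haq h3 h4 hbq t y
  have hwK : w ∈ K := by
    have htop : K.comap (emb (two Fr.hqr)) = ⊤ := eq_top_of_transvection_mem fun i j hij t => by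
      rw [Subgroup.mem_comap, emb_transvection]
      have hs : ∀ k, two Fr.hqr k ≠ Fr.p ∧ two Fr.hqr k ≠ Fr.o := fun k => by
        fin_cases k
        · exact ⟨Fr.hqp, Fr.hqo⟩
        · exact ⟨Fr.hrp, Fr.hro⟩
      exact hall _ _ _ (hs i).1 (hs i).2 (hs j).1 (hs j).2 t
    exact Subgroup.mem_comap.mp (htop ▸ Subgroup.mem_top (wEl2 : S2F))
  exact ⟨hall, B.pair_mem Fr.hpo B.dTor_po ((K.mul_mem_cancel_left hwK).mp hc) hw⟩

/-- Rank four. -/
theorem Base.full_four [Finite F] {y : S2F}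
    (hall : ∀ k, k = Fr.p ∨ k = Fr.o ∨ k = Fr.r ∨ k = Fr.q)
    (hg : (emb (two Fr.hqr) g3 : SLn) ∈ kTau Fr φ T y) (hg' : (emb (two Fr.hpo) g3 : SLn) ∈ kTau Fr φ T y)
    (hw : Nat.card F ≤ 3 → (emb (two Fr.hqr) wEl2 : SLn) ∈ kTau Fr φ T y)
    (hw' : Nat.card F ≤ 3 → (emb (two Fr.hpo) wEl2 : SLn) ∈ kTau Fr φ T y) : Full Fr φ T y := by
  refine ⟨fun a b h h1 h2 h3 h4 t => ?_, B.pair_mem Fr.hpo B.dTor_po hg' hw'⟩
  have hs := B.pair_mem Fr.hqr B.dTor_qr hg hw
  have ha : a = Fr.r ∨ a = Fr.q := by rcases hall a with r | r | r | r <;> first | contradiction | tauto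
  have hb : b = Fr.r ∨ b = Fr.q := by rcases hall b with r | r | r | r <;> first | contradiction | tauto
  rcases ha with rfl | rfl <;> rcases hb with rfl | rfl
  · exact absurd rfl h
  · have := hs (lo2 t); rw [lo2, emb_transvection] at this; exact this
  · have := hs (up2 t); rw [up2, emb_transvection] at this; exact this
  · exact absurd rfl h

/-- All the relations. -/
theorem Base.rels (Y : List S2F) (hY : ∀ K : Subgroup S2F, (∀ z : Fˣ, ∀ s ∈ K, scaleOff z s ∈ K) →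
      (∀ s ∈ Y, s ∈ K) → K = ⊤) (hfull : ∀ y ∈ Y, Full Fr φ T y)
    (hneg : φ (emb (two Fr.hpo) (negOne F)) = tauG Fr φ T (negOne F))
    (hpin : T = φ (cyc Fr) * tauG Fr φ T wEl2 * (φ (emb (two Fr.hpo) wEl2))⁻¹ * (φ (cyc Fr))⁻¹) :
    Rels Fr φ T := by
  let P : Set SLn := {x | (∃ (a b : ι) (h : a ≠ b) (t : F), a ≠ Fr.p ∧ a ≠ Fr.o ∧ b ≠ Fr.p ∧ b ≠ Fr.o ∧
    x = tv h t) ∨ ∃ s, x = emb (two Fr.hpo) s}
  have hmemP : ∀ s, s ∈ (Subgroup.centralizer (φ '' P)).comap (tauG Fr φ T) ↔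
      ∀ x ∈ P, Commute (φ x) (tauG Fr φ T s) := fun s => by
    rw [Subgroup.mem_comap, Subgroup.mem_centralizer_iff]
    exact ⟨fun h x hx => h _ ⟨x, hx, rfl⟩, by rintro h _ ⟨x, hx, rfl⟩; exact h x hx⟩
  have htop : (Subgroup.centralizer (φ '' P)).comap (tauG Fr φ T) = ⊤ := by
    refine hY _ (fun z s hs => ?_) fun y hy => ?_
    · rw [hmemP] at hs ⊢
      intro x hx
      set e : SLn := eTor Fr z
      have hx' : e⁻¹ * x * e ∈ P := by
        have he : e⁻¹ = eTor Fr z⁻¹ := by simp only [e, eTor, map_inv]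
        rw [show e⁻¹ * x * e = eTor Fr z⁻¹ * x * (eTor Fr z⁻¹)⁻¹ by rw [← he, inv_inv]]
        rcases hx with ⟨a, b, h, t, h1, h2, h3, h4, rfl⟩ | ⟨s', rfl⟩
        · exact Or.inl ⟨a, b, h, _, h1, h2, h3, h4, torTwo_tv Fr.hrp.symm h z⁻¹ t⟩
        · exact Or.inr ⟨_, torTwo_emb_left Fr.hpo Fr.hrp.symm Fr.hro.symm z⁻¹ s'⟩
      have hc := (hs _ hx').map (MulAut.conj (φ e)).toMonoidHom
      simp only [MulEquiv.toMonoidHom_eq_coe, MonoidHom.coe_coe, MulAut.conj_apply, B.tau_eTor,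
        map_mul, map_inv, e] at hc
      convert hc using 1
      group
    · rw [hmemP]
      rintro x (⟨a, b, h, t, h1, h2, h3, h4, rfl⟩ | ⟨s', rfl⟩)
      · exact mem_kTau.mp ((hfull y hy).1 a b h h1 h2 h3 h4 t)
      · exact mem_kTau.mp ((hfull y hy).2 s')
  refine ⟨B.fix, B.flip, fun a b h h1 h2 h3 h4 t s => ?_, fun s' s => ?_, hneg, hpin⟩
  · exact (hmemP s).mp (htop ▸ Subgroup.mem_top s) _ (Or.inl ⟨a, b, h, t, h1, h2, h3, h4, rfl⟩)
  · exact (hmemP s).mp (htop ▸ Subgroup.mem_top s) _ (Or.inr ⟨s', rfl⟩)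

end CfsgLib.OmegaPres
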