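import Mathlib
import Cfsg.Agent.OmegaPres.Model
import Cfsg.Agent.OmegaPres.Spread
import Cfsg.Agent.SLPres77.Amalgam

/-!
Gluing a presentation of `SLₙ` with one further generator to a presentation of `Ω⁺`.
-/

set_option autoImplicit false
set_option linter.unusedSectionVars false

namespace CfsgLib.OmegaPres

open Matrix CfsgLib.CurtisTitsA CfsgLib.CurtisTitsD Cfsg.Geo
open CfsgLib.SLPres77 (scaleOff exists_pres_amalg)
open CfsgLib.CurtisTitsD.Data (wEl2 tor2)
open CfsgLib.CommutingSLTwo (negOne)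
open CfsgLib.Classical.Linear (eq_top_of_transvection_mem)

/-- The infinite cyclic group on one generator. -/
theorem int_pres : Nonempty (PresentedGroup (↑(∅ : Finset (FreeGroup (Fin 1))) : Set (FreeGroup (Fin 1))) ≃*
    Multiplicative ℤ) := by
  refine ⟨MonoidHom.toMulEquiv (PresentedGroup.toGroup (f := fun _ => Multiplicative.ofAdd 1) (by simp))
    (zpowersHom _ (PresentedGroup.of 0)) (PresentedGroup.ext fun i => ?_) (MonoidHom.ext_mint ?_)⟩
  · rw [Subsingleton.elim i 0, MonoidHom.comp_apply, PresentedGroup.toGroup.of, MonoidHom.id_apply]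
    simp [zpowersHom_apply]
  · rw [MonoidHom.comp_apply, MonoidHom.id_apply]
    simp [zpowersHom_apply, PresentedGroup.toGroup.of]

variable {F : Type*} [Field F] {ι : Type} [Fintype ι] [DecidableEq ι] {γ : Type} [Fintype γ] [DecidableEq γ]

local notation "S2F" => Matrix.SpecialLinearGroup (Fin 2) F

section Core

variable (Fr : Frame ι) (ec : γ ↪ ι) (hec : ∀ a, (∃ i, ec i = a) ↔ a ≠ Fr.o ∧ a ≠ Fr.q)
include hec

theorem commute_ec (a : Matrix.SpecialLinearGroup γ F) (b : S2F) :
    Commute (emb ec a : Matrix.SpecialLinearGroup ι F) (emb (two Fr.hqo.symm) b) := by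
  have htop : (Subgroup.centralizer ({emb (two Fr.hqo.symm) b} : Set (Matrix.SpecialLinearGroup ι F))).comap
      (emb ec) = ⊤ := eq_top_of_transvection_mem fun i j hij t => by
    rw [Subgroup.mem_comap, Subgroup.mem_centralizer_singleton_iff, emb_transvection]
    obtain ⟨hi, hi'⟩ := (hec _).mp ⟨i, rfl⟩
    obtain ⟨hj, hj'⟩ := (hec _).mp ⟨j, rfl⟩
    exact (commute_two_tv Fr.hqo.symm _ hi hi' hj hj' b t).eq.symm
  have := htop ▸ Subgroup.mem_top a
  rw [Subgroup.mem_comap, Subgroup.mem_centralizer_singleton_iff] at this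
  exact this

/-- The product of the copy on the fixed indices and the copy on the exchanged pair. -/
def pairHom : Matrix.SpecialLinearGroup γ F × S2F →* Matrix.SpecialLinearGroup ι F :=
  (emb ec).noncommCoprod (emb (two Fr.hqo.symm)) (commute_ec Fr ec hec)

theorem pairHom_apply (x : Matrix.SpecialLinearGroup γ F × S2F) :
    pairHom Fr ec hec x = emb ec x.1 * emb (two Fr.hqo.symm) x.2 := rfl

theorem tv_eq_ec {a b : ι} (h : a ≠ b) (ha : a ≠ Fr.o) (ha' : a ≠ Fr.q) (hb : b ≠ Fr.o) (hb' : b ≠ Fr.q)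
    (t : F) : ∃ x : Matrix.SpecialLinearGroup γ F, (tv h t : Matrix.SpecialLinearGroup ι F) = emb ec x := by
  obtain ⟨i, rfl⟩ := (hec a).mpr ⟨ha, ha'⟩
  obtain ⟨j, rfl⟩ := (hec b).mpr ⟨hb, hb'⟩
  exact ⟨tv (fun e => h (congrArg ec e)) t, (emb_transvection ec _ t).symm⟩

variable {G : Type*} [Group G] (φ : Matrix.SpecialLinearGroup ι F →* G) (T : G)

/-- The relations on a generating list give the basic data. -/
theorem base_of_list (L1 : List (Matrix.SpecialLinearGroup γ F × S2F))
    (hL1 : Subgroup.closure {x | x ∈ L1} = ⊤)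
    (h : ∀ x ∈ L1, T * φ (pairHom Fr ec hec x) * T⁻¹ = φ (pairHom Fr ec hec (x.1, dual x.2))) :
    Base Fr φ T := by
  have key : ((MulAut.conj T).toMonoidHom.comp (φ.comp (pairHom Fr ec hec))) =
      φ.comp ((pairHom Fr ec hec).comp ((MonoidHom.id _).prodMap dual)) := by
    refine MonoidHom.eq_of_eqOn_top ?_
    rw [← hL1]
    exact MonoidHom.eqOn_closure fun x hx => h x hx
  have key' : ∀ x, T * φ (pairHom Fr ec hec x) * T⁻¹ = φ (pairHom Fr ec hec (x.1, dual x.2)) :=
    fun x => DFunLike.congr_fun key x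
  refine ⟨fun a b hab ha ha' hb hb' t => ?_, fun s => ?_⟩
  · obtain ⟨x, hx⟩ := tv_eq_ec Fr ec hec hab ha ha' hb hb' t
    have := key' (x, 1)
    simp only [pairHom_apply, map_one, mul_one, ← hx] at this
    exact mul_inv_eq_iff_eq_mul.mp this
  · have := key' (1, s)
    simpa only [pairHom_apply, map_one, one_mul] using this

end Core

section Glue

variable {n m : ℕ} [Finite F] (Fr : Frame (Fin n)) (ec : γ ↪ Fin n)
  (hec : ∀ a, (∃ i, ec i = a) ↔ a ≠ Fr.o ∧ a ≠ Fr.q)

theorem fix_ec0 (a : Matrix.SpecialLinearGroup γ F) :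
    Commute (swapT Fr) (phi0 (emb ec a : Matrix.SpecialLinearGroup (Fin n) F)) ∨
      ¬ ∀ a, (∃ i, ec i = a) ↔ a ≠ Fr.o ∧ a ≠ Fr.q := by
  refine or_not_of_imp fun hec => ?_
  have htop : (Subgroup.centralizer ({swapT Fr} : Set (GL (Fin n ⊕ Fin n) F))).comap
      (phi0.comp (emb ec)) = ⊤ := eq_top_of_transvection_mem fun i j hij t => by
    rw [Subgroup.mem_comap, Subgroup.mem_centralizer_singleton_iff, MonoidHom.comp_apply, emb_transvection]
    obtain ⟨hi, hi'⟩ := (hec _).mp ⟨i, rfl⟩
    obtain ⟨hj, hj'⟩ := (hec _).mp ⟨j, rfl⟩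
    exact ((rels0 (F := F) Fr).fix _ _ _ hi hi' hj hj' t).eq.symm
  have := htop ▸ Subgroup.mem_top a
  rw [Subgroup.mem_comap, Subgroup.mem_centralizer_singleton_iff] at this
  exact this.symm

open scoped _root_.Classical in
include hec in
/-- One more generator. -/
theorem omega_pres (hn : 3 ≤ n) (RA : Finset (FreeGroup (Fin m)))
    (eA : PresentedGroup (↑RA : Set (FreeGroup (Fin m))) ≃* Matrix.SpecialLinearGroup (Fin n) F)
    (L1 : List (Matrix.SpecialLinearGroup γ F × S2F)) (hL1 : Subgroup.closure {x | x ∈ L1} = ⊤)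
    (X : List (Matrix.SpecialLinearGroup (Fin n) F)) (Y : List S2F)
    (hX : ∀ x ∈ X, ∀ s, x ∈ kTau Fr (phi0 (F := F)) (swapT Fr) s)
    (hfull : ∀ {G : Type} [Group G] (φ : Matrix.SpecialLinearGroup (Fin n) F →* G) (T : G),
      Base Fr φ T → ∀ y : S2F, (∀ x ∈ X, x ∈ kTau Fr φ T y) → Full Fr φ T y)
    (hY : ∀ K : Subgroup S2F, (∀ z : Fˣ, ∀ s ∈ K, scaleOff z s ∈ K) → (∀ s ∈ Y, s ∈ K) → K = ⊤) :
    ∃ R : Finset (FreeGroup (Fin (m + 1))),
      R.card ≤ RA.card + (L1.length + X.length * Y.length + 1 + if (2 : F) = 0 then 0 else 1) ∧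
      Nonempty (PresentedGroup (↑R : Set (FreeGroup (Fin (m + 1)))) ≃*
        omegaGL (Cfsg.quadFormPlus n F)) := by
  classical
  obtain ⟨eB⟩ := int_pres
  let H := omegaGL (Cfsg.quadFormPlus n F)
  let f : Matrix.SpecialLinearGroup (Fin n) F →* H := phi0.codRestrict _ (phi0_mem Fr hn)
  let g : Multiplicative ℤ →* H := zpowersHom H ⟨swapT Fr, swapT_mem Fr hn⟩
  let il : Matrix.SpecialLinearGroup (Fin n) F →*
      Monoid.Coprod (Matrix.SpecialLinearGroup (Fin n) F) (Multiplicative ℤ) := Monoid.Coprod.inl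
  let t : Monoid.Coprod (Matrix.SpecialLinearGroup (Fin n) F) (Multiplicative ℤ) :=
    Monoid.Coprod.inr (Multiplicative.ofAdd 1)
  let wW : Matrix.SpecialLinearGroup (Fin n) F := emb (two Fr.hpo) wEl2
  let zW : Matrix.SpecialLinearGroup (Fin n) F := emb (two Fr.hpo) (negOne F)
  let EL : List (Monoid.Coprod (Matrix.SpecialLinearGroup (Fin n) F) (Multiplicative ℤ)) :=
    L1.map (fun x => t * il (pairHom Fr ec hec x) * t⁻¹ * (il (pairHom Fr ec hec (x.1, dual x.2)))⁻¹) ++
    (X.map fun x => Y.map fun y => il x * (t * il (emb (two Fr.hpo) y) * t⁻¹) * (il x)⁻¹ *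
      (t * il (emb (two Fr.hpo) y) * t⁻¹)⁻¹).flatten ++
    [t * (il (cyc Fr) * (t * il wW * t⁻¹) * (il wW)⁻¹ * (il (cyc Fr))⁻¹)⁻¹] ++
    if (2 : F) = 0 then [] else [il zW * (t * il zW * t⁻¹)⁻¹]
  have hlen : EL.length = L1.length + X.length * Y.length + 1 + if (2 : F) = 0 then 0 else 1 := by
    have : ∀ (l : List (Matrix.SpecialLinearGroup (Fin n) F))
        (h : Matrix.SpecialLinearGroup (Fin n) F → S2F →
          Monoid.Coprod (Matrix.SpecialLinearGroup (Fin n) F) (Multiplicative ℤ)),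
        (l.map fun x => Y.map (h x)).flatten.length = l.length * Y.length := fun l h => by
      induction l with
      | nil => simp
      | cons a l ih => simp [ih, Nat.succ_mul]; ring
    simp only [EL, List.length_append, List.length_map, this]
    split_ifs <;> simp
  refine (exists_pres_amalg RA eA ∅ eB EL f g ?_ ?_ ?_).imp
    fun R hR => ⟨hR.1.trans (by rw [hlen]; simp), hR.2⟩
  · intro w hw
    refine Subtype.ext ?_
    have R0 := rels0 (F := F) Fr
    simp only [EL, List.mem_append, List.mem_map, List.mem_singleton, List.mem_flatten] at hw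
    rcases hw with ((⟨x, hx, rfl⟩ | ⟨l, ⟨x, hx, rfl⟩, hl⟩) | rfl) | hw
    · simp only [il, t, map_mul, map_inv, Monoid.Coprod.lift_apply_inl, Monoid.Coprod.lift_apply_inr,
        Subgroup.coe_mul, Subgroup.coe_inv, Subgroup.coe_one, g, f, zpowersHom_apply, toAdd_ofAdd, zpow_one,
        MonoidHom.codRestrict_apply, pairHom_apply]
      rw [mul_inv_eq_one, ← R0.flip]
      have hc := ((fix_ec0 Fr ec x.1).resolve_right (not_not.mpr hec))
      calc _ = (swapT Fr * phi0 (emb ec x.1)) * phi0 (emb (two Fr.hqo.symm) x.2) * (swapT Fr)⁻¹ := by group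
        _ = _ := by rw [hc.eq]; group
    · simp only [List.mem_map] at hl
      obtain ⟨y, hy, rfl⟩ := hl
      simp only [il, t, map_mul, map_inv, Monoid.Coprod.lift_apply_inl, Monoid.Coprod.lift_apply_inr,
        Subgroup.coe_mul, Subgroup.coe_inv, Subgroup.coe_one, g, f, zpowersHom_apply, toAdd_ofAdd, zpow_one,
        MonoidHom.codRestrict_apply]
      rw [← tauG_apply, (mem_kTau.mp (hX x hx y)).eq, mul_inv_cancel_right, mul_inv_cancel]
    · simp only [il, t, map_mul, map_inv, Monoid.Coprod.lift_apply_inl, Monoid.Coprod.lift_apply_inr,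
        Subgroup.coe_mul, Subgroup.coe_inv, Subgroup.coe_one, g, f, zpowersHom_apply, toAdd_ofAdd, zpow_one,
        MonoidHom.codRestrict_apply, wW]
      rw [← tauG_apply, mul_inv_eq_one]
      exact R0.pin
    · split_ifs at hw with h2
      · simp at hw
      · rw [List.mem_singleton] at hw
        subst hw
        simp only [il, t, map_mul, map_inv, Monoid.Coprod.lift_apply_inl, Monoid.Coprod.lift_apply_inr,
          Subgroup.coe_mul, Subgroup.coe_inv, Subgroup.coe_one, g, f, zpowersHom_apply, toAdd_ofAdd, zpow_one,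
          MonoidHom.codRestrict_apply, zW]
        rw [← tauG_apply, mul_inv_eq_one]
        exact R0.neg
  · rw [eq_top_iff]
    intro x _
    have hle : Subgroup.closure (Set.range (phi0 (F := F) (ι := Fin n)) ∪ {swapT Fr}) ≤
        (f.range ⊔ g.range).map H.subtype := by
      rw [Subgroup.closure_le]
      rintro _ (⟨s, rfl⟩ | rfl)
      · exact ⟨f s, Subgroup.mem_sup_left ⟨s, rfl⟩, rfl⟩
      · exact ⟨g (Multiplicative.ofAdd 1), Subgroup.mem_sup_right ⟨_, rfl⟩, by simp [g]⟩
    obtain ⟨y, hy, e⟩ := hle (omegaGL_le Fr hn x.2)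
    exact Subtype.ext e ▸ hy
  · intro G _ φ g' hrel
    set T := g' (Multiplicative.ofAdd 1) with hT
    have B : Base Fr φ T := base_of_list Fr ec hec φ T L1 hL1 fun x hx => by
      have h := hrel _ (List.mem_append_left _ (List.mem_append_left _ (List.mem_append_left _
        (List.mem_map.2 ⟨x, hx, rfl⟩))))
      simpa only [il, t, map_mul, map_inv, Monoid.Coprod.lift_apply_inl, Monoid.Coprod.lift_apply_inr,
        mul_inv_eq_one] using h
    have hXY : ∀ y ∈ Y, ∀ x ∈ X, x ∈ kTau Fr φ T y := fun y hy x hx => by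
      have h := hrel _ (List.mem_append_left _ (List.mem_append_left _ (List.mem_append_right _
        (List.mem_flatten.2 ⟨_, List.mem_map.2 ⟨x, hx, rfl⟩, List.mem_map.2 ⟨y, hy, rfl⟩⟩))))
      simp only [il, t, map_mul, map_inv, Monoid.Coprod.lift_apply_inl, Monoid.Coprod.lift_apply_inr,
        mul_inv_eq_one] at h
      rw [mem_kTau, tauG_apply]
      exact mul_inv_eq_iff_eq_mul.mp h
    have hpin : T = φ (cyc Fr) * tauG Fr φ T wEl2 * (φ (emb (two Fr.hpo) wEl2))⁻¹ * (φ (cyc Fr))⁻¹ := by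
      have h := hrel _ (List.mem_append_left _ (List.mem_append_right _ (List.mem_singleton_self _)))
      simpa only [il, t, wW, map_mul, map_inv, Monoid.Coprod.lift_apply_inl, Monoid.Coprod.lift_apply_inr,
        mul_inv_eq_one, tauG_apply] using h
    have hneg : φ (emb (two Fr.hpo) (negOne F)) = tauG Fr φ T (negOne F) := by
      by_cases h2 : (2 : F) = 0
      · have : negOne F = 1 := sl_eq (by
          ext i j
          fin_cases i <;> fin_cases j <;> simp [negOne, CommutingSLTwo.mk4]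
          all_goals linear_combination -h2)
        rw [this, map_one, map_one, map_one]
      · have h := hrel (il zW * (t * il zW * t⁻¹)⁻¹)
          (List.mem_append_right _ (by rw [if_neg h2]; exact List.mem_singleton_self _))
        simpa only [il, t, zW, map_mul, map_inv, Monoid.Coprod.lift_apply_inl, Monoid.Coprod.lift_apply_inr,
          mul_inv_eq_one, tauG_apply] using h
    have R := B.rels Y hY (fun y hy => hfull φ T B y (hXY y hy)) hneg hpin
    obtain ⟨Ψ, h1, h2⟩ := exists_omega_hom R hn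
    refine ⟨Ψ, MonoidHom.ext fun s => h1 s (phi0_mem Fr hn s), MonoidHom.ext_mint ?_⟩
    rw [MonoidHom.comp_apply, show g (Multiplicative.ofAdd 1) = ⟨swapT Fr, swapT_mem Fr hn⟩ by simp [g]]
    exact h2 _

end Glue

end CfsgLib.OmegaPres
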