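import Mathlib
import Cfsg.Agent.OmegaPres.Glue
import Cfsg.Agent.SLPres77.TwoGenThree
import Cfsg.Agent.S2279

/-!
The short lists of elements fed to the gluing.
-/

set_option autoImplicit false
set_option linter.unusedSectionVars false

namespace CfsgLib.OmegaPres

open Matrix CfsgLib.CurtisTitsA CfsgLib.CurtisTitsD
open CfsgLib.SLPres77 (scaleOff)
open CfsgLib.CurtisTitsD.Data (wEl2 tor2)
open CfsgLib.Classical.Linear (eq_top_of_transvection_mem)

variable {F : Type*} [Field F] [Fintype F]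

local notation "S2F" => Matrix.SpecialLinearGroup (Fin 2) F

theorem card_cases : Fintype.card F = 2 ∨ Fintype.card F = 3 ∨ 4 ≤ Fintype.card F := by
  have := Fintype.one_lt_card (α := F)
  omega

/-- The Weyl conjugate of `g3`. -/
def g3w : S2F := ⟨!![-1, 1; -1, 0], by rw [det_fin_two_of]; ring⟩

theorem g3w_val : (g3w : S2F).1 = !![-1, 1; -1, 0] := rfl

/-- The element and its Weyl conjugate generate over three elements. -/
theorem g3_conjw_gen (hq : Fintype.card F = 3) (K : Subgroup S2F) (hg : (g3 : S2F) ∈ K)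
    (hw : (wEl2 * g3 * wEl2⁻¹ : S2F) ∈ K) : K = ⊤ := by
  have h30 : (3 : F) = 0 := by
    have h := FiniteField.cast_card_eq_zero F
    rw [hq] at h
    exact_mod_cast h
  have ev : (wEl2 * g3 * wEl2⁻¹ : S2F) = g3w := by
    refine mul_inv_eq_iff_eq_mul.mpr ?_
    refine sl_eq ?_
    rw [val_mul, val_mul, wEl2_val, g3_val, g3w_val]
    ext i j; fin_cases i <;> fin_cases j <;> simp [Matrix.mul_apply, Fin.sum_univ_two]
  rw [ev] at hw
  set v : S2F := g3w with hv
  have h1 : g3 * v * (g3 * v) = lo2 (-1 : F) := by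
    refine sl_eq ?_
    rw [val_mul, val_mul, g3_val, lo2_val]
    ext i j; fin_cases i <;> fin_cases j <;> simp [v, g3w_val, Matrix.mul_apply, Fin.sum_univ_two]
    all_goals (first | linear_combination h30 | linear_combination -h30)
  have h2 : v * g3 * (v * g3) = up2 (1 : F) := by
    refine sl_eq ?_
    rw [val_mul, val_mul, g3_val, up2_val]
    ext i j; fin_cases i <;> fin_cases j <;> simp [v, g3w_val, Matrix.mul_apply, Fin.sum_univ_two]
    all_goals (first | linear_combination h30 | linear_combination -h30)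
  have hu := up_of_one (by rw [Nat.card_eq_fintype_card]; omega) K
    (h2 ▸ K.mul_mem (K.mul_mem hw hg) (K.mul_mem hw hg))
  refine eq_top_of_up_lo K hu fun t => ?_
  obtain ⟨k, hk⟩ := exists_natCast (F := F) (by rw [Nat.card_eq_fintype_card]; omega) (-t)
  have hl : lo2 (-1 : F) ∈ K := h1 ▸ K.mul_mem (K.mul_mem hg hw) (K.mul_mem hg hw)
  have key : ∀ j : ℕ, lo2 (-(j : F)) ∈ K := fun j => by
    induction j with
    | zero => rw [Nat.cast_zero, neg_zero, lo2_zero]; exact K.one_mem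
    | succ j ih => rw [Nat.cast_succ, neg_add, lo2_add]; exact K.mul_mem ih hl
  rw [← neg_neg t, hk]
  exact key k

theorem g3_pow_four : (g3 : S2F) ^ 4 = g3 := by rw [pow_succ, g3_pow_three, one_mul]

theorem conj_pow_mem {A : Type*} [Group A] (K : Subgroup (A × S2F)) {a : A} {z : Fˣ}
    (hz : ∀ u : Fˣ, u ∈ Subgroup.zpowers z) (he : (a, (tor2 z : S2F)) ∈ K) (hg : ((1 : A), (g3 : S2F)) ∈ K)
    (m : Fˣ) : ((1 : A), scaleOff (m * m) (g3 : S2F)) ∈ K := by
  obtain ⟨i, rfl⟩ := hz m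
  have := mul_mem (mul_mem (zpow_mem he i) hg) (inv_mem (zpow_mem he i))
  rw [Prod.pow_mk, Prod.inv_mk, Prod.mk_mul_mk, Prod.mk_mul_mk, mul_one, mul_inv_cancel, ← map_zpow,
    tor2_conj] at this
  exact this

theorem prod_top {A : Type*} [Group A] (K : Subgroup (A × S2F)) {S : Set A} (hS : Subgroup.closure S = ⊤)
    (hB : ∀ s, ((1 : A), s) ∈ K) (hA : ∀ a ∈ S, ∃ s, (a, s) ∈ K) : K = ⊤ := by
  have h1 : ∀ a, (a, (1 : S2F)) ∈ K := by
    have htop : K.comap (MonoidHom.inl A S2F) = ⊤ := by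
      rw [eq_top_iff, ← hS, Subgroup.closure_le]
      intro a ha
      obtain ⟨s, hs⟩ := hA a ha
      have := mul_mem hs (inv_mem (hB s))
      rwa [Prod.inv_mk, Prod.mk_mul_mk, inv_one, mul_one, mul_inv_cancel] at this
    exact fun a => Subgroup.mem_comap.mp (htop ▸ Subgroup.mem_top a)
  rw [eq_top_iff]
  rintro ⟨a, s⟩ -
  have := mul_mem (h1 a) (hB s)
  rwa [Prod.mk_mul_mk, mul_one, one_mul] at this

theorem right_top {A : Type*} [Group A] (K : Subgroup (A × S2F))
    (h : K.comap (MonoidHom.inr A S2F) = ⊤) (s : S2F) : ((1 : A), s) ∈ K :=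
  Subgroup.mem_comap.mp (h ▸ Subgroup.mem_top s)

theorem exists_two_gens {d : ℕ} (hd : 3 ≤ d) :
    ∃ u v : Matrix.SpecialLinearGroup (Fin d) F, Subgroup.closure ({u, v} : Set _) = ⊤ := by
  by_cases h3 : d = 3
  · subst h3; exact SLPres77.sl_three_two_generated
  · obtain ⟨⟨u, v, -, -, h⟩, -⟩ := Cfsg.Agent.S2279.result (F := F) d (by omega)
    exact ⟨u, v, h⟩

/-- The list for the exchange relations in rank at least five. -/
theorem exists_list_large {d : ℕ} (hd : 3 ≤ d) :
    ∃ L : List (Matrix.SpecialLinearGroup (Fin d) F × S2F), Subgroup.closure {x | x ∈ L} = ⊤ ∧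
      (Fintype.card F = 2 → L.length ≤ 4) ∧ (Fintype.card F ≠ 2 → L.length ≤ 3) := by
  obtain ⟨u, v, huv⟩ := exists_two_gens (F := F) hd
  rcases card_cases (F := F) with hq | hq | hq
  · refine ⟨[(u, 1), (v, 1), (1, g3), (1, wEl2)], ?_, fun _ => by simp, fun h => absurd hq h⟩
    set K := Subgroup.closure {x | x ∈ [(u, (1 : S2F)), (v, 1), (1, g3), (1, wEl2)]}
    have hK : ∀ x ∈ [(u, (1 : S2F)), (v, 1), (1, g3), (1, wEl2)], x ∈ K := fun x hx => Subgroup.subset_closure hx
    refine prod_top K huv (right_top K (g3_w_gen (by rw [Nat.card_eq_fintype_card]; omega) _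
      (hK _ (by simp)) (hK _ (by simp)))) ?_
    rintro a (rfl | rfl) <;> exact ⟨1, hK _ (by simp)⟩
  · refine ⟨[(u, 1), (v, wEl2), (1, g3)], ?_, fun h => by omega, fun _ => by simp⟩
    set K := Subgroup.closure {x | x ∈ [(u, (1 : S2F)), (v, wEl2), (1, g3)]}
    have hK : ∀ x ∈ [(u, (1 : S2F)), (v, wEl2), (1, g3)], x ∈ K := fun x hx => Subgroup.subset_closure hx
    refine prod_top K huv (right_top K (g3_conjw_gen hq _ (hK _ (by simp)) ?_)) ?_
    · have h := mul_mem (mul_mem (hK (v, wEl2) (by simp)) (hK (1, g3) (by simp))) (inv_mem (hK (v, wEl2) (by simp)))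
      rw [Prod.inv_mk, Prod.mk_mul_mk, Prod.mk_mul_mk, mul_one, mul_inv_cancel] at h
      exact h
    · rintro a (rfl | rfl)
      · exact ⟨1, hK _ (by simp)⟩
      · exact ⟨wEl2, hK _ (by simp)⟩
  · obtain ⟨z, hz⟩ := IsCyclic.exists_generator (α := Fˣ)
    refine ⟨[(u, 1), (v, tor2 z), (1, g3)], ?_, fun h => by omega, fun _ => by simp⟩
    set K := Subgroup.closure {x | x ∈ [(u, (1 : S2F)), (v, tor2 z), (1, g3)]}
    have hK : ∀ x ∈ [(u, (1 : S2F)), (v, tor2 z), (1, g3)], x ∈ K := fun x hx => Subgroup.subset_closure hx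
    refine prod_top K huv (right_top K (g3_gen (by rw [Nat.card_eq_fintype_card]; omega) _
      fun m => conj_pow_mem K hz (hK (v, tor2 z) (by simp)) (hK _ (by simp)) m)) ?_
    rintro a (rfl | rfl)
    · exact ⟨1, hK _ (by simp)⟩
    · exact ⟨tor2 z, hK _ (by simp)⟩

/-- The list for the exchange relations in rank four. -/
theorem exists_list_four :
    ∃ L : List (S2F × S2F), Subgroup.closure {x | x ∈ L} = ⊤ ∧
      (Fintype.card F = 2 → L.length ≤ 4) ∧ (Fintype.card F = 3 → L.length ≤ 2) ∧ L.length ≤ 4 ∧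
      (4 ≤ Fintype.card F → L.length ≤ 3) := by
  rcases card_cases (F := F) with hq | hq | hq
  · refine ⟨[(g3, 1), (wEl2, 1), (1, g3), (1, wEl2)], ?_, fun _ => by simp, fun h => by omega, by simp,
      fun h => by omega⟩
    set K := Subgroup.closure {x | x ∈ [((g3 : S2F), (1 : S2F)), (wEl2, 1), (1, g3), (1, wEl2)]}
    have hK : ∀ x ∈ [((g3 : S2F), (1 : S2F)), (wEl2, 1), (1, g3), (1, wEl2)], x ∈ K :=
      fun x hx => Subgroup.subset_closure hx
    have hle : Nat.card F ≤ 3 := by rw [Nat.card_eq_fintype_card]; omega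
    refine prod_top K (S := Set.univ) (Subgroup.closure_univ) (right_top K (g3_w_gen hle _
      (hK _ (by simp)) (hK _ (by simp)))) fun a _ => ⟨1, ?_⟩
    exact Subgroup.mem_comap.mp ((g3_w_gen hle (K.comap (MonoidHom.inl S2F S2F)) (hK _ (by simp))
      (hK _ (by simp))) ▸ Subgroup.mem_top a)
  · refine ⟨[(g3, wEl2), (wEl2, g3)], ?_, fun h => by omega, fun _ => by simp, by simp, fun h => by omega⟩
    set K := Subgroup.closure {x | x ∈ [((g3 : S2F), (wEl2 : S2F)), (wEl2, g3)]}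
    have hK : ∀ x ∈ [((g3 : S2F), (wEl2 : S2F)), (wEl2, g3)], x ∈ K := fun x hx => Subgroup.subset_closure hx
    have e1 : ((g3 : S2F), (1 : S2F)) ∈ K := by
      have := pow_mem (hK _ (List.mem_cons_self ..)) 4
      rwa [Prod.pow_mk, g3_pow_four, wEl2_pow_four] at this
    have e2 : ((1 : S2F), (g3 : S2F)) ∈ K := by
      have := pow_mem (hK (wEl2, g3) (by simp)) 4
      rwa [Prod.pow_mk, g3_pow_four, wEl2_pow_four] at this
    have e3 : ((1 : S2F), (wEl2 : S2F)) ∈ K := by
      have := mul_mem (inv_mem e1) (hK (g3, wEl2) (by simp))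
      rwa [Prod.inv_mk, Prod.mk_mul_mk, inv_mul_cancel, inv_one, one_mul] at this
    have e4 : ((wEl2 : S2F), (1 : S2F)) ∈ K := by
      have := mul_mem (hK (wEl2, g3) (by simp)) (inv_mem e2)
      rwa [Prod.inv_mk, Prod.mk_mul_mk, mul_inv_cancel, inv_one, mul_one] at this
    have hle : Nat.card F ≤ 3 := by rw [Nat.card_eq_fintype_card]; omega
    refine prod_top K (S := Set.univ) (Subgroup.closure_univ) (right_top K (g3_w_gen hle _ e2 e3))
      fun a _ => ⟨1, ?_⟩
    exact Subgroup.mem_comap.mp ((g3_w_gen hle (K.comap (MonoidHom.inl S2F S2F)) e1 e4) ▸ Subgroup.mem_top a)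
  · obtain ⟨z, hz⟩ := IsCyclic.exists_generator (α := Fˣ)
    refine ⟨[(tor2 z, tor2 z), (g3, 1), (1, g3)], ?_, fun h => by omega, fun h => by omega, by simp,
      fun _ => by simp⟩
    set K := Subgroup.closure {x | x ∈ [((tor2 z : S2F), (tor2 z : S2F)), (g3, 1), (1, g3)]}
    have hK : ∀ x ∈ [((tor2 z : S2F), (tor2 z : S2F)), (g3, 1), (1, g3)], x ∈ K :=
      fun x hx => Subgroup.subset_closure hx
    have h4 : 4 ≤ Nat.card F := by rw [Nat.card_eq_fintype_card]; omega
    refine prod_top K (S := Set.univ) (Subgroup.closure_univ) (right_top K (g3_gen h4 _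
      fun m => conj_pow_mem K hz (hK (tor2 z, tor2 z) (by simp)) (hK _ (by simp)) m))
      fun a _ => ⟨1, ?_⟩
    refine Subgroup.mem_comap.mp ((g3_gen h4 (K.comap (MonoidHom.inl S2F S2F)) fun m => ?_) ▸ Subgroup.mem_top a)
    obtain ⟨i, rfl⟩ := hz m
    have := mul_mem (mul_mem (zpow_mem (hK (tor2 z, tor2 z) (by simp)) i) (hK (g3, 1) (by simp)))
      (inv_mem (zpow_mem (hK (tor2 z, tor2 z) (by simp)) i))
    rw [Prod.pow_mk, Prod.inv_mk, Prod.mk_mul_mk, Prod.mk_mul_mk, mul_one, mul_inv_cancel, ← map_zpow,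
      tor2_conj] at this
    exact this

section Commutation

variable {n : ℕ} (Fr : Frame (Fin n))

theorem model_po (s y : S2F) :
    (emb (two Fr.hpo) s : Matrix.SpecialLinearGroup (Fin n) F) ∈ kTau Fr (phi0 (F := F)) (swapT Fr) y :=
  mem_kTau.mpr ((rels0 Fr).inn s y)

theorem model_qr (s y : S2F) :
    (emb (two Fr.hqr) s : Matrix.SpecialLinearGroup (Fin n) F) ∈ kTau Fr (phi0 (F := F)) (swapT Fr) y := by
  have htop : (kTau Fr (phi0 (F := F)) (swapT Fr) y).comap (emb (two Fr.hqr)) = ⊤ :=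
    eq_top_of_transvection_mem fun i j hij t => by
      rw [Subgroup.mem_comap, emb_transvection, mem_kTau]
      have hs : ∀ k, two Fr.hqr k ≠ Fr.p ∧ two Fr.hqr k ≠ Fr.o := fun k => by
        fin_cases k
        · exact ⟨Fr.hqp, Fr.hqo⟩
        · exact ⟨Fr.hrp, Fr.hro⟩
      exact (rels0 Fr).out _ _ _ (hs i).1 (hs i).2 (hs j).1 (hs j).2 t y
  exact Subgroup.mem_comap.mp (htop ▸ Subgroup.mem_top s)

/-- The short list of the conjugated copy. -/
theorem exists_Y : ∃ Y : List S2F,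
    (∀ K : Subgroup S2F, (∀ z : Fˣ, ∀ s ∈ K, scaleOff z s ∈ K) → (∀ s ∈ Y, s ∈ K) → K = ⊤) ∧
      (Fintype.card F = 2 → Y.length ≤ 2) ∧ (Fintype.card F ≠ 2 → Y.length ≤ 1) := by
  rcases card_cases (F := F) with hq | hq
  · exact ⟨[g3, wEl2], fun K _ hY => g3_w_gen (by rw [Nat.card_eq_fintype_card]; omega) K
      (hY _ (by simp)) (hY _ (by simp)), fun _ => by simp, fun h => absurd hq h⟩
  · refine ⟨[g3], fun K hK hY => g3_gen_all (by rw [Nat.card_eq_fintype_card]; omega) K
      fun m => hK m _ (hY _ (by simp)), fun h => by omega, fun _ => by simp⟩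

/-- The short commutation list in rank at least five. -/
theorem exists_X_large (hx : ∃ x, x ≠ Fr.p ∧ x ≠ Fr.o ∧ x ≠ Fr.q ∧ x ≠ Fr.r) :
    ∃ X : List (Matrix.SpecialLinearGroup (Fin n) F),
      (∀ x ∈ X, ∀ s, x ∈ kTau Fr (phi0 (F := F)) (swapT Fr) s) ∧
      (∀ {G : Type} [Group G] (φ : Matrix.SpecialLinearGroup (Fin n) F →* G) (T : G),
        Base Fr φ T → ∀ y : S2F, (∀ x ∈ X, x ∈ kTau Fr φ T y) → Full Fr φ T y) ∧
      X.length ≤ 2 ∧ (4 ≤ Fintype.card F → X.length ≤ 1) := by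
  by_cases h4 : 4 ≤ Fintype.card F
  · refine ⟨[emb (two Fr.hqr) wEl2 * emb (two Fr.hpo) g3], ?_, fun φ T B y h => ?_, by simp, fun _ => by simp⟩
    · simp only [List.mem_singleton]
      rintro x rfl s
      exact mul_mem (model_qr Fr _ s) (model_po Fr _ s)
    · exact B.full_large hx (h _ (by simp)) fun h3 => by
        rw [Nat.card_eq_fintype_card] at h3; omega
  · refine ⟨[emb (two Fr.hqr) wEl2 * emb (two Fr.hpo) g3, emb (two Fr.hpo) wEl2], ?_, fun φ T B y h => ?_,
      by simp, fun h => absurd h h4⟩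
    · simp only [List.mem_cons, List.not_mem_nil, or_false]
      rintro x (rfl | rfl) s
      · exact mul_mem (model_qr Fr _ s) (model_po Fr _ s)
      · exact model_po Fr _ s
    · exact B.full_large hx (h _ (by simp)) fun _ => h _ (by simp)

/-- The short commutation list in rank four. -/
theorem exists_X_four (hall : ∀ k, k = Fr.p ∨ k = Fr.o ∨ k = Fr.r ∨ k = Fr.q) :
    ∃ X : List (Matrix.SpecialLinearGroup (Fin n) F),
      (∀ x ∈ X, ∀ s, x ∈ kTau Fr (phi0 (F := F)) (swapT Fr) s) ∧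
      (∀ {G : Type} [Group G] (φ : Matrix.SpecialLinearGroup (Fin n) F →* G) (T : G),
        Base Fr φ T → ∀ y : S2F, (∀ x ∈ X, x ∈ kTau Fr φ T y) → Full Fr φ T y) ∧
      X.length ≤ 2 := by
  by_cases h4 : 4 ≤ Fintype.card F
  · refine ⟨[emb (two Fr.hqr) g3, emb (two Fr.hpo) g3], ?_, fun φ T B y h => ?_, by simp⟩
    · simp only [List.mem_cons, List.not_mem_nil, or_false]
      rintro x (rfl | rfl) s
      · exact model_qr Fr _ s
      · exact model_po Fr _ s
    · exact B.full_four hall (h _ (by simp)) (h _ (by simp))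
        (fun h3 => by rw [Nat.card_eq_fintype_card] at h3; omega)
        (fun h3 => by rw [Nat.card_eq_fintype_card] at h3; omega)
  · refine ⟨[emb (two Fr.hqr) g3 * emb (two Fr.hpo) wEl2, emb (two Fr.hqr) wEl2 * emb (two Fr.hpo) g3], ?_,
      fun φ T B y h => ?_, by simp⟩
    · simp only [List.mem_cons, List.not_mem_nil, or_false]
      rintro x (rfl | rfl) s <;> exact mul_mem (model_qr Fr _ s) (model_po Fr _ s)
    · have hc : ∀ a b : S2F, Commute (emb (two Fr.hqr) a : Matrix.SpecialLinearGroup (Fin n) F)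
          (emb (two Fr.hpo) b) := fun a b =>
        commute_two_two Fr.hqr Fr.hpo Fr.hqp.symm Fr.hrp.symm Fr.hqo.symm Fr.hro.symm a b
      have h1 := h _ (List.mem_cons_self ..)
      have h2 := h (emb (two Fr.hqr) wEl2 * emb (two Fr.hpo) g3) (by simp)
      have e1 : (emb (two Fr.hqr) g3 : Matrix.SpecialLinearGroup (Fin n) F) ∈ kTau Fr φ T y := by
        have := pow_mem h1 4
        rwa [(hc _ _).mul_pow, ← map_pow, ← map_pow, g3_pow_four, wEl2_pow_four, map_one, mul_one] at this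
      have e2 : (emb (two Fr.hpo) g3 : Matrix.SpecialLinearGroup (Fin n) F) ∈ kTau Fr φ T y := by
        have := pow_mem h2 4
        rwa [(hc _ _).mul_pow, ← map_pow, ← map_pow, g3_pow_four, wEl2_pow_four, map_one, one_mul] at this
      exact B.full_four hall e1 e2 (fun _ => ((kTau Fr φ T y).mul_mem_cancel_right e2).mp h2)
        (fun _ => ((kTau Fr φ T y).mul_mem_cancel_left e1).mp h1)

end Commutation

end CfsgLib.OmegaPres
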