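import Mathlib
import Cfsg.Agent.SLPres77.Relations
import Cfsg.Agent.OmegaPres.Gens

/-!
Presentations of `SL_n` with a few relations to spare over the fields of two and three elements.
-/

set_option autoImplicit false

namespace CfsgLib.OmegaPres

open CfsgLib.SLPres77 CfsgLib.SteinbergSL CfsgLib.SLThreePres CfsgLib.SLTwoPres Polynomial
open CfsgLib.Psl2Unipotent (upperU diagA)
open Cfsg.Agent.S2286 (slHom GivesData gU gH gW adjoin_sq_eq_top rootRels_small bruhatRels bruhat_sat bruhat_gives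
  xWord xWord_map sl_conj_pow slHom_U slHom_H slHom_W)

variable {F : Type*} [Field F] [Fintype F]

theorem sl_rels_small (p : ℕ) [Fact p.Prime] [Algebra (ZMod p) F] {ζ : Fˣ}
    (hζ : ∀ u : Fˣ, u ∈ Subgroup.zpowers ζ) (he : Module.finrank (ZMod p) F ≤ 2) :
    ∃ L : List (FreeGroup (Fin 3)), L.length ≤ 7 ∧ (∀ r ∈ L, slHom ζ r = 1) ∧
      ∀ {G : Type} [Group G] (φ : FreeGroup (Fin 3) →* G), (∀ r ∈ L, φ r = 1) → GivesData ζ G φ := by
  have hadj : Algebra.adjoin (ZMod p) {((ζ : F) ^ 2) ^ 1} = ⊤ := by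
    simpa using adjoin_sq_eq_top (p := p) hζ
  have hroot := rootRels_small hζ he
  set L0 : List (FreeGroup (Fin 3)) := [gU ^ p, gU * (gH * gU * gH⁻¹) * gU⁻¹ * (gH * gU * gH⁻¹)⁻¹,
    polyWord (minpoly (ZMod p) ((ζ : F) ^ 2)) gU gH]
  refine ⟨L0 ++ [gH * gU * gH⁻¹ * (xWord hadj ((ζ : F) ^ 2))⁻¹, gW * gH * gW⁻¹ * gH] ++
    bruhatRels hadj, by simp [L0, bruhatRels], fun r hr => ?_, fun {G} _ φ hr => ?_⟩
  · simp only [List.mem_append, List.mem_cons, List.not_mem_nil, or_false] at hr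
    rcases hr with (hr | rfl | rfl) | hr
    · exact hroot.1 r hr
    · rw [map_mul, map_inv, mul_inv_eq_one, map_mul, map_mul, map_inv, slHom_H, slHom_U,
        xWord_map hadj _ (slHom ζ) (slData_matrix ζ).add (slHom_U ζ).symm
          (by simpa using sl_conj_pow ζ 1), (slData_matrix ζ).conj_x, mul_one]
    · simp only [map_mul, map_inv, slHom_W, slHom_H]
      rw [(slData_matrix ζ).conj_h, inv_mul_cancel]
    · exact bruhat_sat hadj hr
  · obtain ⟨x, hadd, hu, -, hA⟩ := hroot.2 φ fun r hr' => hr r (by simp [hr'])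
    obtain ⟨h1, h2⟩ := bruhat_gives hadj φ (fun r hr' => hr r (by simp [hr'])) hadd hu hA
    have h3 := hr (gH * gU * gH⁻¹ * (xWord hadj ((ζ : F) ^ 2))⁻¹) (by simp)
    have h4 := hr (gW * gH * gW⁻¹ * gH) (by simp)
    rw [map_mul, map_inv, mul_inv_eq_one, map_mul, map_mul, map_inv,
      xWord_map hadj _ φ hadd hu hA, ← hu] at h3
    simp only [map_mul, map_inv] at h4
    exact ⟨x, ⟨hadd, conj_param hadd hA hadj (Commute.self_pow _ _) h3,
      eq_inv_of_mul_eq_one_left h4, h1, h2⟩, hu⟩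

/-- The presentations, sharper over small fields. -/
theorem sl_pres_slack {n : ℕ} (hn : 4 ≤ n) :
    ∃ (m k : ℕ) (R : Finset (FreeGroup (Fin m)))
      (_ : PresentedGroup (↑R : Set (FreeGroup (Fin m))) ≃* Matrix.SpecialLinearGroup (Fin n) F),
      R.card ≤ k ∧
      (6 ≤ n → m = 7 ∧ k ≤ 25 ∧ (Fintype.card F = 3 → k ≤ 24) ∧ (Fintype.card F = 2 → k ≤ 22)) ∧
      (n = 5 → m = 6 ∧ k ≤ 22 ∧ (Fintype.card F = 3 → k ≤ 21) ∧ (Fintype.card F = 2 → k ≤ 19)) ∧
      (n = 4 → m = 6 ∧ k ≤ 21 ∧ (Fintype.card F = 2 → k ≤ 18)) := by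
  classical
  obtain ⟨RB, eB, S1, S2, h1, h2, l⟩ : ∃ (RB : Finset (FreeGroup (Fin 4)))
      (_ : PresentedGroup (↑RB : Set (FreeGroup (Fin 4))) ≃* Matrix.SpecialLinearGroup (Fin 3) F)
      (S1 : List (Matrix.SpecialLinearGroup (Fin 3) F))
      (S2 : List (Matrix.SpecialLinearGroup (Fin 2) F)), GenThree S1 ∧ GenTwo S2 ∧
      RB.card + S1.length + S2.length ≤ 16 ∧ RB.card + 2 * S2.length ≤ 16 ∧ RB.card + S2.length ≤ 15 ∧
      (Fintype.card F = 3 → RB.card + S1.length + S2.length ≤ 15 ∧ RB.card + 2 * S2.length ≤ 15) ∧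
      (Fintype.card F = 2 → RB.card + S1.length + S2.length ≤ 13 ∧ RB.card + 2 * S2.length ≤ 13 ∧
        RB.card + S2.length ≤ 12) := by
    by_cases h3 : Fintype.card F ≤ 3
    · obtain ⟨p, hp⟩ := CharP.exists F
      haveI := hp
      haveI : Fact p.Prime := ⟨CharP.char_is_prime F p⟩
      letI : Algebra (ZMod p) F := ZMod.algebra F p
      obtain ⟨ζ, hζ⟩ := IsCyclic.exists_generator (α := Fˣ)
      have he : Module.finrank (ZMod p) F ≤ 2 := by
        have hc := Module.card_eq_pow_finrank (K := ZMod p) (V := F)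
        rw [ZMod.card] at hc
        by_contra hcon
        have : 2 ^ 3 ≤ p ^ Module.finrank (ZMod p) F :=
          (Nat.pow_le_pow_left (Fact.out : p.Prime).two_le 3).trans
            (Nat.pow_le_pow_right (Fact.out : p.Prime).pos (by omega))
        omega
      have hspan : ∀ K : AddSubgroup F, (∀ t ∈ K, (ζ : F) ^ 3 * t ∈ K) →
          {t | t ∈ [(1 : F)]} ⊆ (K : Set F) → ∀ t, t ∈ K := fun K _ hS t => by
        obtain ⟨k, rfl⟩ := exists_natCast (F := F) (by rwa [Nat.card_eq_fintype_card]) t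
        rw [← nsmul_one]
        exact K.nsmul_mem (hS (by simp)) k
      by_cases h2 : (2 : F) = 0
      · obtain rfl : p = 2 := by
          have : p ∣ 2 := (CharP.cast_eq_zero_iff F p 2).1 (by exact_mod_cast h2)
          exact (Nat.prime_dvd_prime_iff_eq (Fact.out : p.Prime) Nat.prime_two).1 this
        obtain ⟨L2, hlen, hsat, hprop⟩ := Cfsg.Agent.S2286.sl_rels_two hζ
        obtain ⟨RB, hc, ⟨eB⟩⟩ := Cfsg.Agent.S2287.pres3 2 hζ L2 hsat hprop [1] hspan
        refine ⟨RB, eB, _, _, genThree_generic hζ (by omega), (?_ : GenTwo [upperU (1 : F)]), ?_⟩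
        · unfold GenTwo
          set K := Subgroup.closure ({g | g ∈ [upperU (1 : F)]} ∪ swapCoord '' {g | g ∈ [upperU (1 : F)]})
          have hu : upperU (1 : F) ∈ K := Subgroup.subset_closure (Or.inl (by simp))
          have hup : ∀ t : F, CurtisTitsA.up2 t ∈ K :=
            up_of_one (by rwa [Nat.card_eq_fintype_card]) K (by
              rw [show CurtisTitsA.up2 (1 : F) = upperU 1 from Subtype.ext (by
                rw [CurtisTitsA.up2_val, upperU_eq_tv]; ext i j; fin_cases i <;> fin_cases j <;>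
                  simp [tv, CfsgLib.Classical.Linear.transvection_apply])]
              exact hu)
          refine eq_top_of_up_lo K hup fun t => ?_
          have := swapCoord_mem _ (hup t)
          rw [show CurtisTitsA.lo2 t = swapCoord (CurtisTitsA.up2 t) from Subtype.ext (by
            rw [swapCoord_coe, CurtisTitsA.up2_val, CurtisTitsA.lo2_val]
            ext i j; fin_cases i <;> fin_cases j <;> simp)]
          exact this
        · simp at hc ⊢
          refine ⟨?_, ?_, ?_, ?_, ?_⟩ <;> omega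
      · obtain ⟨L2, hlen, hsat, hprop⟩ := sl_rels_small p hζ he
        obtain ⟨RB, hc, ⟨eB⟩⟩ := Cfsg.Agent.S2287.pres3 p hζ L2 hsat hprop [1] hspan
        refine ⟨RB, eB, _, _, genThree_generic hζ (by omega), genTwo_odd p hζ h2 (by omega), ?_⟩
        have hne : Fintype.card F ≠ 2 := fun e => h2 (by
          have h := FiniteField.cast_card_eq_zero F
          rw [e] at h
          exact_mod_cast h)
        simp at hc ⊢
        refine ⟨?_, ?_, ?_, ?_, ?_⟩ <;> omega
    · obtain ⟨RB, eB, S1, S2, h1, h2, l1, l2, l3⟩ := field_data (F := F)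
      exact ⟨RB, eB, S1, S2, h1, h2, l1, l2, l3, fun h => absurd h.le h3, fun h => absurd (by omega) h3⟩
  by_cases h6 : 6 ≤ n
  · obtain ⟨R, hR, ⟨e⟩⟩ := sl_pres_large_card h6 RB eB S1 h1 S2 h2
    exact ⟨7, _, R, e, hR, fun _ => ⟨rfl, by omega, fun h => by have := l.2.2.2.1 h; omega,
      fun h => by have := l.2.2.2.2 h; omega⟩, by omega, by omega⟩
  rcases (show n = 5 ∨ n = 4 by omega) with rfl | rfl
  · obtain ⟨R, hR, ⟨e⟩⟩ := sl_pres_five_card RB eB S2 h2
    exact ⟨6, _, R, e, hR, by omega, fun _ => ⟨rfl, by omega, fun h => by have := l.2.2.2.1 h; omega,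
      fun h => by have := l.2.2.2.2 h; omega⟩, by omega⟩
  · obtain ⟨R, hR, ⟨e⟩⟩ := sl_pres_four_card RB eB S2 h2
    exact ⟨6, _, R, e, hR, by omega, by omega, fun _ => ⟨rfl, by omega,
      fun h => by have := l.2.2.2.2 h; omega⟩⟩

end CfsgLib.OmegaPres
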