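import Mathlib
import Cfsg.Agent.OmegaPres.Lists
import Cfsg.Agent.OmegaPres.Small
import Cfsg.Agent.Classical.Orth.CentreOmega

/-!
Presentations of `Ω⁺` and `PΩ⁺` on eight generators.
-/

set_option autoImplicit false
set_option linter.unusedSectionVars false

namespace CfsgLib.OmegaPres

open Matrix CfsgLib.CurtisTitsA CfsgLib.CurtisTitsD Cfsg.Geo CfsgLib.OrthGeo
open CfsgLib.SLPres77 (exists_pres_pad exists_pres_quot)

variable {F : Type*} [Field F]

/-- The frame `0, 1, 2, 3`. -/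
def frame (k : ℕ) : Frame (Fin (k + 4)) where
  p := ⟨0, by omega⟩
  o := ⟨1, by omega⟩
  r := ⟨2, by omega⟩
  q := ⟨3, by omega⟩
  hpo := by simp [Fin.ext_iff]
  hrp := by simp [Fin.ext_iff]
  hro := by simp [Fin.ext_iff]
  hqp := by simp [Fin.ext_iff]
  hqo := by simp [Fin.ext_iff]
  hqr := by simp [Fin.ext_iff]

/-- The indices fixed by the exchange. -/
def fixedIdx (k : ℕ) : Fin (k + 2) ↪ Fin (k + 4) :=
  ⟨fun i => ⟨if i.val = 0 then 0 else if i.val = 1 then 2 else i.val + 2, by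
      have := i.isLt; split_ifs <;> omega⟩, fun i j h => by
    simp only [Fin.ext_iff] at h ⊢
    split_ifs at h <;> omega⟩

theorem fixedIdx_val (k : ℕ) (i : Fin (k + 2)) :
    (fixedIdx k i).val = if i.val = 0 then 0 else if i.val = 1 then 2 else i.val + 2 := rfl

theorem fixedIdx_range (k : ℕ) (a : Fin (k + 4)) :
    (∃ i, fixedIdx k i = a) ↔ a ≠ (frame k).o ∧ a ≠ (frame k).q := by
  simp only [frame, Fin.ext_iff, ne_eq, fixedIdx_val]
  constructor
  · rintro ⟨i, h⟩
    split_ifs at h <;> omega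
  · rintro ⟨h1, h2⟩
    have := a.isLt
    by_cases h0 : a.val = 0
    · exact ⟨⟨0, by omega⟩, by simp [h0]⟩
    by_cases hb : a.val = 2
    · exact ⟨⟨1, by omega⟩, by simp [hb]⟩
    · refine ⟨⟨a.val - 2, by omega⟩, ?_⟩
      dsimp only
      split_ifs <;> omega

/-- `Ω⁺` on eight generators. -/
theorem omega_eight [Fintype F] (k : ℕ) :
    ∃ R : Finset (FreeGroup (Fin 8)), R.card ≤ 31 ∧ (k ≤ 1 → R.card ≤ 29) ∧
      Nonempty (PresentedGroup (↑R : Set (FreeGroup (Fin 8))) ≃* omegaGL (Cfsg.quadFormPlus (k + 4) F)) := by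
  classical
  obtain ⟨m, c, RA, eA, hRA, hA6, hA5, hA4⟩ := sl_pres_slack (F := F) (show 4 ≤ k + 4 by omega)
  have hneg2 : Fintype.card F = 2 → (2 : F) = 0 := fun e => by
    have h := FiniteField.cast_card_eq_zero F
    rw [e] at h
    exact_mod_cast h
  obtain ⟨Y, hY, hY2, hY3⟩ := exists_Y (F := F)
  have hcases := card_cases (F := F)
  rcases Nat.eq_zero_or_pos k with rfl | hk
  · obtain ⟨rfl, hc, hc2⟩ := hA4 rfl
    obtain ⟨L, hL, hL2, hL3, hL4, hL5⟩ := exists_list_four (F := F)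
    obtain ⟨X, hX, hXf, hXl⟩ := exists_X_four (F := F) (frame 0) (fun a => by
      simp only [frame, Fin.ext_iff]
      have := a.isLt
      omega)
    obtain ⟨R, hR, ⟨e⟩⟩ := omega_pres (frame 0) (fixedIdx 0) (fixedIdx_range 0) (by omega) RA eA L hL X Y hX
      hXf hY
    obtain ⟨R', hR', he⟩ := exists_pres_pad R e
    have hlen : L.length + X.length * Y.length + 1 + (if (2 : F) = 0 then 0 else 1) + c + 1 ≤ 29 := by
      rcases hcases with hq | hq | hq
      · rw [if_pos (hneg2 hq)]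
        have := hL2 hq
        have := hc2 hq
        have := Nat.mul_le_mul hXl (hY2 hq)
        omega
      · have := hL3 hq
        have := Nat.mul_le_mul hXl (hY3 (by omega))
        split_ifs <;> omega
      · have := hL5 hq
        have := Nat.mul_le_mul hXl (hY3 (by omega))
        split_ifs <;> omega
    exact ⟨R', by omega, fun _ => by omega, he⟩
  · obtain ⟨L, hL, hL2, hL3⟩ := exists_list_large (F := F) (show 3 ≤ k + 2 by omega)
    obtain ⟨X, hX, hXf, hXl, hX4⟩ := exists_X_large (F := F) (frame k) ⟨⟨4, by omega⟩, by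
      simp [frame, Fin.ext_iff]⟩
    obtain ⟨R, hR, ⟨e⟩⟩ := omega_pres (frame k) (fixedIdx k) (fixedIdx_range k) (by omega) RA eA L hL X Y hX
      hXf hY
    have hlen : (Fintype.card F = 2 → L.length + X.length * Y.length + 1 +
          (if (2 : F) = 0 then 0 else 1) ≤ 9) ∧
        (Fintype.card F = 3 → L.length + X.length * Y.length + 1 + (if (2 : F) = 0 then 0 else 1) ≤ 7) ∧
        (4 ≤ Fintype.card F → L.length + X.length * Y.length + 1 + (if (2 : F) = 0 then 0 else 1) ≤ 6) := by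
      refine ⟨fun hq => ?_, fun hq => ?_, fun hq => ?_⟩
      · rw [if_pos (hneg2 hq)]
        have := hL2 hq
        have := Nat.mul_le_mul hXl (hY2 hq)
        omega
      · have := hL3 (by omega)
        have := Nat.mul_le_mul hXl (hY3 (by omega))
        split_ifs <;> omega
      · have := hL3 (by omega)
        have := Nat.mul_le_mul (hX4 hq) (hY3 (by omega))
        split_ifs <;> omega
    by_cases hk2 : 2 ≤ k
    · obtain ⟨rfl, hc, hc3, hc2⟩ := hA6 (by omega)
      refine ⟨R, ?_, fun h => absurd h (by omega), ⟨e⟩⟩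
      rcases hcases with hq | hq | hq
      · have := hlen.1 hq; have := hc2 hq; omega
      · have := hlen.2.1 hq; have := hc3 hq; omega
      · have := hlen.2.2 hq; omega
    · obtain ⟨rfl, hc, hc3, hc2⟩ := hA5 (by omega)
      obtain ⟨R', hR', he⟩ := exists_pres_pad R e
      have : R'.card ≤ 29 := by
        rcases hcases with hq | hq | hq
        · have := hlen.1 hq; have := hc2 hq; omega
        · have := hlen.2.1 hq; have := hc3 hq; omega
        · have := hlen.2.2 hq; omega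
      exact ⟨R', by omega, fun _ => this, he⟩

/-- The centre is cyclic. -/
theorem center_cyclic [Finite F] (n : ℕ) (hn : 3 ≤ n) :
    ∃ z ∈ Subgroup.center (Cfsg.Omega F (Cfsg.quadFormPlus n F)),
      ∀ x ∈ Subgroup.center (Cfsg.Omega F (Cfsg.quadFormPlus n F)), ∃ i : ℤ, z ^ i = x := by
  have hQ := isNondegenerateQuadraticForm_quadFormPlus (F := F) n
  have h5 : 5 ≤ Fintype.card (Fin n ⊕ Fin n) := by simp; omega
  have hval : ∀ {g g' : Cfsg.Omega F (Cfsg.quadFormPlus n F)},
      (((g : Cfsg.isometryGroup F (Cfsg.quadFormPlus n F)) : GL (Fin n ⊕ Fin n) F) :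
          Matrix (Fin n ⊕ Fin n) (Fin n ⊕ Fin n) F) =
        (((g' : Cfsg.isometryGroup F (Cfsg.quadFormPlus n F)) : GL (Fin n ⊕ Fin n) F) :
          Matrix (Fin n ⊕ Fin n) (Fin n ⊕ Fin n) F) → g = g' :=
    fun {_ _} h => Subtype.ext (Subtype.ext (Units.ext h))
  by_cases h : ∃ z ∈ Subgroup.center (Cfsg.Omega F (Cfsg.quadFormPlus n F)), z ≠ 1
  · obtain ⟨z, hz, hne⟩ := h
    refine ⟨z, hz, fun x hx => ?_⟩
    rcases Classical.Orth.center_omega_pm hQ h5 hx with e | e
    · exact ⟨0, by rw [zpow_zero]; exact (hval (by rw [e]; rfl)).symm⟩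
    · rcases Classical.Orth.center_omega_pm hQ h5 hz with e' | e'
      · exact absurd (hval (g' := 1) (by rw [e']; rfl)) hne
      · exact ⟨1, by rw [zpow_one]; exact hval (e'.trans e.symm)⟩
  · push Not at h
    exact ⟨1, Subgroup.one_mem _, fun x hx => ⟨0, by rw [zpow_zero, h x hx]⟩⟩

/-- All the presentations. -/
theorem main [Fintype F] (k : ℕ) :
    (∃ R : Finset (FreeGroup (Fin 8)), R.card ≤ 31 ∧ (k ≤ 1 → R.card ≤ 29) ∧
      Nonempty (PresentedGroup (↑R : Set (FreeGroup (Fin 8))) ≃* Cfsg.Omega F (Cfsg.quadFormPlus (k + 4) F))) ∧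
    (∃ R : Finset (FreeGroup (Fin 8)), R.card ≤ 32 ∧ (k ≤ 1 → R.card ≤ 30) ∧
      Nonempty (PresentedGroup (↑R : Set (FreeGroup (Fin 8))) ≃* Cfsg.POmega F (Cfsg.quadFormPlus (k + 4) F))) := by
  obtain ⟨R, hR, hR', ⟨e⟩⟩ := omega_eight (F := F) k
  let e0 : Cfsg.Omega F (Cfsg.quadFormPlus (k + 4) F) ≃* omegaGL (Cfsg.quadFormPlus (k + 4) F) :=
    Subgroup.equivMapOfInjective _ _ (Cfsg.isometryGroup F _).subtype_injective
  refine ⟨⟨R, hR, hR', ⟨e.trans e0.symm⟩⟩, ?_⟩
  obtain ⟨z, hz, hgen⟩ := center_cyclic (F := F) (k + 4) (by omega)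
  obtain ⟨R2, hR2, he⟩ := exists_pres_quot R (e.trans e0.symm) (Subgroup.center _) z hz hgen
  exact ⟨R2, by omega, fun h => by have := hR' h; omega, he⟩

end CfsgLib.OmegaPres
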